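import Cfsg.Agent.Lib.ThreeTransp.M22Prime.FiveStd

/-!
The ten fixed members of a standard subgroup of order five in a group of type M(22): the symmetric
group of degree five they generate and a member centralising it.
-/

set_option autoImplicit false
set_option linter.unusedSectionVars false

namespace Cfsg.Agent.ThreeTransp.M22Prime.Five

open Cfsg.Agent.ThreeTransp
open Cfsg.Agent.ThreeTransp.M22Prime
open Cfsg.Agent.ThreeTransp.M22 (Chart outer)
open Cfsg.Agent.ThreeTransp.Factor (nb)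

variable {G : Type*} [Group G] {D : Set G}

theorem fixIn_inter_eq {d c : G} {X : Subgroup G} :
    fixIn (nb D d ∩ nb D c) X = fixIn (nb D d) X ∩ fixIn (nb D c) X := by
  ext y
  simp only [fixIn, Set.mem_inter_iff]
  tauto

variable [Finite G] (hD : Cfsg.IsThreeTranspositionGroup D)
  (hprim : Cfsg.IsPrimitiveUnderConj D) (h22 : Cfsg.IsOfTypeM22 G D)
include hD

theorem conj_nb_fix {g a y : G} {X : Subgroup G} (hg : g ∈ Subgroup.normalizer (X : Set G))
    (hy : y ∈ fixIn (nb D a) X) : g * y * g⁻¹ ∈ fixIn (nb D (g * a * g⁻¹)) X :=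
  ⟨Cover.conj_nb hD g hy.1, (fixIn_normalizer (fun g s hs => hD.2.1 g s hs) hg
    (⟨hy.1.1, hy.2⟩ : y ∈ fixIn D X)).2⟩

theorem mem_centralizer_of_fix {a : G} {X : Subgroup G} (ha : a ∈ fixIn D X) :
    a ∈ Subgroup.centralizer (X : Set G) := ha.2

/-- Two fixed members that do not commute are conjugate by an element centralising `X`. -/
theorem conj_of_noncommute {a b : G} {X : Subgroup G} (ha : a ∈ fixIn D X) (hb : b ∈ fixIn D X)
    (h : ¬ Commute a b) :
    ∃ g ∈ Subgroup.centralizer (X : Set G), g * a * g⁻¹ = b := by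
  refine ⟨a * b, mul_mem ha.2 hb.2, ?_⟩
  have hb2 := Classes.sq hD hb.1
  have hbr := Basic.braid hD.1 ha.1 hb.1 h
  rw [mul_inv_rev, Classes.inv hD hb.1, Classes.inv hD ha.1]
  calc a * b * a * (b * a) = b * a * b * (b * a) := by rw [hbr]
    _ = b * a * (b * b) * a := by simp [mul_assoc]
    _ = b := by rw [hb2, mul_one, mul_assoc, Classes.sq hD ha.1, mul_one]

include hprim h22

variable {d : G} {C : Chart D d} {X : Subgroup G}

theorem pgroup_five {X : Subgroup G} (hX : Nat.card ↥X = 5) : IsPGroup 5 ↥X :=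
  IsPGroup.of_card (n := 1) (by rw [hX, pow_one])

/-- A fixed outer member has one fixed neighbour in common with the centre. -/
theorem common_one (hd : d ∈ D) (hX : IsStd C X) {c : G} (hc : c ∈ fixIn (outer D d) X) :
    ∃ x, fixIn (nb D d) X ∩ fixIn (nb D c) X = {x} := by
  have : Fact (Nat.Prime 5) := ⟨by norm_num⟩
  have h := modEq_inter hD hprim h22 (pgroup_five hD hprim h22 hX.1) (fix_mem hD hprim h22 hd hX)
    (⟨hc.1.1, hc.2⟩ : c ∈ fixIn D X) hc.1.2
  rw [fixIn_inter_eq] at h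
  have hle := Set.ncard_le_ncard (Set.inter_subset_left :
    fixIn (nb D d) X ∩ fixIn (nb D c) X ⊆ fixIn (nb D d) X) (Set.toFinite _)
  rw [(fix_nb hD hprim h22 hd hX).1] at hle
  rw [← Set.ncard_eq_one]
  revert h
  generalize (fixIn (nb D d) X ∩ fixIn (nb D c) X).ncard = n at hle ⊢
  interval_cases n <;> simp [Nat.ModEq]

theorem exists_outer (hd : d ∈ D) (hX : IsStd C X) : (fixIn (outer D d) X).Nonempty := by
  have : Fact (Nat.Prime 5) := ⟨by norm_num⟩
  have h := modEq_outer hD hprim h22 (pgroup_five hD hprim h22 hX.1) (fix_mem hD hprim h22 hd hX)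
  rw [Set.nonempty_iff_ne_empty]
  intro he
  rw [he, Set.ncard_empty] at h
  exact absurd h (by decide)

theorem fix_cases (hd : d ∈ D) (hX : IsStd C X) {a : G} (ha : a ∈ fixIn D X) :
    a = d ∨ a ∈ fixIn (nb D d) X ∨ a ∈ fixIn (outer D d) X := by
  by_cases e : a = d
  · exact Or.inl e
  by_cases h : Commute d a
  · exact Or.inr (Or.inl ⟨⟨ha.1, e, h⟩, ha.2⟩)
  · exact Or.inr (Or.inr ⟨⟨ha.1, h⟩, ha.2⟩)

/-- The centraliser of `X` is transitive on the fixed members. -/
theorem fix_trans (hd : d ∈ D) (hX : IsStd C X) {a : G} (ha : a ∈ fixIn D X) :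
    ∃ g ∈ Subgroup.centralizer (X : Set G), g * d * g⁻¹ = a := by
  have hdf := fix_mem hD hprim h22 hd hX
  rcases fix_cases hD hprim h22 hd hX ha with rfl | h | h
  · exact ⟨1, one_mem _, by group⟩
  · obtain ⟨c, hc⟩ := exists_outer hD hprim h22 hd hX
    obtain ⟨x, hx⟩ := common_one hD hprim h22 hd hX hc
    have hcf : c ∈ fixIn D X := ⟨hc.1.1, hc.2⟩
    obtain ⟨g, hg, hgd⟩ := conj_of_noncommute hD hdf hcf hc.1.2
    have hxm : x ∈ fixIn (nb D d) X ∩ fixIn (nb D c) X := hx ▸ Set.mem_singleton x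
    -- a neighbour other than the common one
    obtain ⟨y, hy, hyx⟩ := Set.exists_ne_of_one_lt_ncard (s := fixIn (nb D d) X)
      (by rw [(fix_nb hD hprim h22 hd hX).1]; norm_num) x
    have hyf : y ∈ fixIn D X := ⟨hy.1.1, hy.2⟩
    have hcy : ¬ Commute c y := fun hc' => hyx (by
      have : y ∈ fixIn (nb D d) X ∩ fixIn (nb D c) X :=
        ⟨hy, ⟨hy.1.1, fun e => hc.1.2 (e ▸ hy.1.2.2), hc'⟩, hy.2⟩
      rwa [hx, Set.mem_singleton_iff] at this)
    obtain ⟨k, hk, hkc⟩ := conj_of_noncommute hD hcf hyf hcy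
    have hdy : k * g * d * (k * g)⁻¹ = y := by rw [← hkc, ← hgd]; group
    by_cases e : a = y
    · exact ⟨k * g, mul_mem hk hg, by rw [hdy, e]⟩
    · obtain ⟨m, hm, hmy⟩ := conj_of_noncommute hD hyf ha
        ((fix_nb hD hprim h22 hd hX).2.1 y hy a h (Ne.symm e))
      exact ⟨m * (k * g), mul_mem hm (mul_mem hk hg), by rw [← hmy, ← hdy]; group⟩
  · exact conj_of_noncommute hD hdf ha h.1.2

theorem fix_nb_all (hd : d ∈ D) (hX : IsStd C X) {a : G} (ha : a ∈ fixIn D X) :
    (fixIn (nb D a) X).ncard = 3 ∧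
      ∀ x ∈ fixIn (nb D a) X, ∀ y ∈ fixIn (nb D a) X, x ≠ y → ¬ Commute x y := by
  obtain ⟨g, hg, rfl⟩ := fix_trans hD hprim h22 hd hX ha
  have hgN := Subgroup.centralizer_le_normalizer (X : Set G) hg
  have himg : fixIn (nb D (g * d * g⁻¹)) X = (fun y => g * y * g⁻¹) '' fixIn (nb D d) X := by
    refine Set.Subset.antisymm (fun y hy => ⟨g⁻¹ * y * g, ?_, by group⟩)
      (Set.image_subset_iff.2 fun y hy => conj_nb_fix hD hgN hy)
    have h := conj_nb_fix hD (inv_mem hgN) hy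
    rwa [show g⁻¹ * (g * d * g⁻¹) * g⁻¹⁻¹ = d by group, inv_inv] at h
  obtain ⟨h3, hnc, -⟩ := fix_nb hD hprim h22 hd hX
  rw [himg]
  refine ⟨(Set.ncard_image_of_injective _ fun p q h =>
    mul_left_cancel (mul_right_cancel h)).trans h3, ?_⟩
  rintro _ ⟨x, hx, rfl⟩ _ ⟨y, hy, rfl⟩ hne hc
  exact hnc x hx y hy (fun e => hne (by rw [e])) (Basic.commute_conj.1 hc)

/-- The two other fixed neighbours of a fixed neighbour. -/
theorem two_beyond (hd : d ∈ D) (hX : IsStd C X) {x : G} (hx : x ∈ fixIn (nb D d) X) :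
    (fixIn (nb D x) X \ {d}).ncard = 2 ∧ fixIn (nb D x) X \ {d} ⊆ fixIn (outer D d) X := by
  have hxf : x ∈ fixIn D X := ⟨hx.1.1, hx.2⟩
  obtain ⟨h3, hnc⟩ := fix_nb_all hD hprim h22 hd hX hxf
  have hdx : d ∈ fixIn (nb D x) X :=
    ⟨Cover.mem_nb_symm hd hx.1, (fix_mem hD hprim h22 hd hX).2⟩
  refine ⟨by rw [Set.ncard_diff_singleton_of_mem hdx, h3], ?_⟩
  rintro y ⟨hy, hyd⟩
  exact ⟨⟨hy.1.1, fun hc => hnc d hdx y hy (Ne.symm hyd) hc⟩, hy.2⟩

theorem fix_card (hd : d ∈ D) (hX : IsStd C X) : (fixIn D X).ncard = 10 := by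
  obtain ⟨x, y, z, hxy, hxz, hyz, h3⟩ := Set.ncard_eq_three.1 (fix_nb hD hprim h22 hd hX).1
  set T : G → Set G := fun x => fixIn (nb D x) X \ {d} with hT
  have hx : x ∈ fixIn (nb D d) X := by rw [h3]; simp
  have hy : y ∈ fixIn (nb D d) X := by rw [h3]; simp
  have hz : z ∈ fixIn (nb D d) X := by rw [h3]; simp
  have hdisj : ∀ p ∈ fixIn (nb D d) X, ∀ q ∈ fixIn (nb D d) X, p ≠ q → Disjoint (T p) (T q) := by
    intro p hp q hq hpq
    rw [Set.disjoint_left]
    intro c hc hc'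
    have hco := (two_beyond hD hprim h22 hd hX hp).2 hc
    obtain ⟨w, hw⟩ := common_one hD hprim h22 hd hX hco
    have m : ∀ r ∈ fixIn (nb D d) X, c ∈ T r → r = w := fun r hr hcr => by
      have : r ∈ fixIn (nb D d) X ∩ fixIn (nb D c) X :=
        ⟨hr, Cover.mem_nb_symm hr.1.1 hcr.1.1, hr.2⟩
      rwa [hw, Set.mem_singleton_iff] at this
    exact hpq ((m p hp hc).trans (m q hq hc').symm)
  have hout : fixIn (outer D d) X = T x ∪ T y ∪ T z := by
    refine Set.Subset.antisymm (fun c hc => ?_) ?_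
    · obtain ⟨w, hw⟩ := common_one hD hprim h22 hd hX hc
      have hwm : w ∈ fixIn (nb D d) X ∩ fixIn (nb D c) X := hw ▸ Set.mem_singleton w
      have hcw : c ∈ T w := ⟨⟨Cover.mem_nb_symm hc.1.1 hwm.2.1, hc.2⟩,
        fun e : c = d => hc.1.2 (e ▸ Commute.refl _)⟩
      have hw3 := hwm.1
      rw [h3] at hw3
      rcases hw3 with rfl | rfl | rfl
      exacts [Or.inl (Or.inl hcw), Or.inl (Or.inr hcw), Or.inr hcw]
    · rintro c ((hc | hc) | hc)
      exacts [(two_beyond hD hprim h22 hd hX hx).2 hc, (two_beyond hD hprim h22 hd hX hy).2 hc,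
        (two_beyond hD hprim h22 hd hX hz).2 hc]
  have hset : fixIn D X = insert d (fixIn (nb D d) X ∪ fixIn (outer D d) X) := by
    refine Set.Subset.antisymm (fun a ha => ?_) ?_
    · rcases fix_cases hD hprim h22 hd hX ha with h | h | h
      exacts [Or.inl h, Or.inr (Or.inl h), Or.inr (Or.inr h)]
    · rintro a (rfl | h | h)
      exacts [fix_mem hD hprim h22 hd hX, ⟨h.1.1, h.2⟩, ⟨h.1.1, h.2⟩]
  rw [hset, Set.ncard_insert_of_notMem ?_ (Set.toFinite _),
    Set.ncard_union_eq ?_ (Set.toFinite _) (Set.toFinite _), (fix_nb hD hprim h22 hd hX).1, hout,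
    Set.ncard_union_eq ?_ (Set.toFinite _) (Set.toFinite _),
    Set.ncard_union_eq (hdisj x hx y hy hxy) (Set.toFinite _) (Set.toFinite _),
    (two_beyond hD hprim h22 hd hX hx).1, (two_beyond hD hprim h22 hd hX hy).1,
    (two_beyond hD hprim h22 hd hX hz).1]
  · exact Set.disjoint_union_left.2 ⟨hdisj x hx z hz hxz, hdisj y hy z hz hyz⟩
  · exact Set.disjoint_left.2 fun a ha ha' => ha'.1.2 ha.1.2.2
  · rintro (h | h)
    exacts [h.1.2.1 rfl, h.1.2 (Commute.refl _)]

/-- A member centralising all the fixed members. -/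
theorem exists_witness (hd : d ∈ D) (hX : IsStd C X) :
    ∃ a ∈ D, ∀ y ∈ fixIn D X, Commute a y := by
  have hn := (fix_nb hD hprim h22 hd hX).2.2
  have ha : C.f (step 0) ∈ nb D d := C.mem _ (step_iso C.hF 0).2 (step_iso C.hF 0).1
  refine ⟨_, ha.1, fun y hy => ?_⟩
  rcases fix_cases hD hprim h22 hd hX hy with rfl | h | h
  · exact ha.2.2.symm
  · exact hn y h 0
  · obtain ⟨w, hw⟩ := common_one hD hprim h22 hd hX h
    have hwm : w ∈ fixIn (nb D d) X ∩ fixIn (nb D y) X := hw ▸ Set.mem_singleton w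
    exact step_commute hD hprim h22 hd hX hwm.1 ⟨Cover.mem_nb_symm h.1.1 hwm.2.1, h.2⟩ h.1.2 0

/-- A chain of four fixed members generating all. -/
theorem exists_sym (hd : d ∈ D) (hX : IsStd C X) :
    ∃ φ : Equiv.Perm (Fin 5) →* G, Function.Injective φ ∧ φ (Equiv.swap 0 1) = d ∧
      (∀ p q : Fin 5, p ≠ q → φ (Equiv.swap p q) ∈ fixIn D X) ∧
      φ.range = Subgroup.closure (fixIn D X) := by
  classical
  have hdf := fix_mem hD hprim h22 hd hX
  obtain ⟨x, y, z, hxy, -, -, h3⟩ := Set.ncard_eq_three.1 (fix_nb hD hprim h22 hd hX).1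
  have hx : x ∈ fixIn (nb D d) X := by rw [h3]; simp
  have hy : y ∈ fixIn (nb D d) X := by rw [h3]; simp
  have hb := two_beyond hD hprim h22 hd hX hy
  obtain ⟨t, ht⟩ := Set.nonempty_of_ncard_ne_zero (hb.1.trans_ne (by norm_num : (2 : ℕ) ≠ 0))
  have hto := hb.2 ht
  have htx : ¬ Commute t x := fun h => by
    obtain ⟨w, hw⟩ := common_one hD hprim h22 hd hX hto
    have m : ∀ r ∈ fixIn (nb D d) X, Commute t r → r = w := fun r hr hc => by
      have : r ∈ fixIn (nb D d) X ∩ fixIn (nb D t) X :=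
        ⟨hr, ⟨hr.1.1, fun e => hto.1.2 (e ▸ hr.1.2.2), hc⟩, hr.2⟩
      rwa [hw, Set.mem_singleton_iff] at this
    exact hxy ((m x hx h).trans (m y hy ht.1.1.2.2.symm).symm)
  have hxyc := (fix_nb hD hprim h22 hd hX).2.1 x hx y hy hxy
  set s : Fin 4 → G := ![d, t, x, y] with hs
  have hsf : ∀ i, s i ∈ fixIn D X := by
    intro i
    fin_cases i <;> simp [hs]
    exacts [hdf, ⟨hto.1.1, hto.2⟩, ⟨hx.1.1, hx.2⟩, ⟨hy.1.1, hy.2⟩]
  obtain ⟨φ, hφ⟩ := SymFive.exists_hom s (fun i => Classes.sq hD (hsf i).1)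
    (Basic.cube_of_not_commute hD.1 hd hto.1.1 hto.1.2)
    (Basic.cube_of_not_commute hD.1 hto.1.1 hx.1.1 htx)
    (Basic.cube_of_not_commute hD.1 hx.1.1 hy.1.1 hxyc) hx.1.2.2 hy.1.2.2 ht.1.1.2.2.symm
  have h01 : φ (Equiv.swap 0 1) = d := hφ 0
  have h12 : φ (Equiv.swap 1 2) = t := hφ 1
  have hinj : Function.Injective φ := SymFive.injective_of (by
    rw [h01, h12]
    exact fun e => hto.1.2 (e ▸ Commute.refl d))
  have hgen : ∀ g : Equiv.Perm (Fin 5), φ g ∈ Subgroup.centralizer (X : Set G) := by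
    intro g
    have hg : g ∈ Submonoid.closure (Set.range fun i : Fin 4 => Equiv.swap i.castSucc i.succ) := by
      rw [Equiv.Perm.mclosure_swap_castSucc_succ 4]; exact Submonoid.mem_top g
    induction hg using Submonoid.closure_induction with
    | mem y hy => obtain ⟨i, rfl⟩ := hy; rw [hφ i]; exact (hsf i).2
    | one => rw [map_one]; exact one_mem _
    | mul a b _ _ ha hb => rw [map_mul]; exact mul_mem ha hb
  have hswap : ∀ p q : Fin 5, p ≠ q → φ (Equiv.swap p q) ∈ fixIn D X := by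
    intro p q hpq
    obtain ⟨g, hg⟩ : ∃ g : Equiv.Perm (Fin 5), g * Equiv.swap 0 1 * g⁻¹ = Equiv.swap p q := by
      revert p q hpq; decide +kernel
    rw [← hg, map_mul, map_mul, map_inv, h01]
    exact fixIn_normalizer (fun g s hs => hD.2.1 g s hs)
      (Subgroup.centralizer_le_normalizer (X : Set G) (hgen g)) hdf
  refine ⟨φ, hinj, h01, hswap, le_antisymm ?_ ?_⟩
  · rintro _ ⟨g, rfl⟩
    have hg : g ∈ Submonoid.closure (Set.range fun i : Fin 4 => Equiv.swap i.castSucc i.succ) := by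
      rw [Equiv.Perm.mclosure_swap_castSucc_succ 4]; exact Submonoid.mem_top g
    induction hg using Submonoid.closure_induction with
    | mem y hy => obtain ⟨i, rfl⟩ := hy; rw [hφ i]; exact Subgroup.subset_closure (hsf i)
    | one => rw [map_one]; exact one_mem _
    | mul a b _ _ ha hb => rw [map_mul]; exact mul_mem ha hb
  · rw [Subgroup.closure_le]
    set S : Set (Equiv.Perm (Fin 5)) :=
      {g | ∃ p q : Fin 5, p ≠ q ∧ g = Equiv.swap p q} with hS
    have h10 : S.ncard = 10 := by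
      rw [Set.ncard_eq_toFinset_card', Set.toFinset_setOf]
      decide +kernel
    have himg : φ '' S = fixIn D X := by
      refine Set.eq_of_subset_of_ncard_le ?_ ?_ (Set.toFinite _)
      · rintro _ ⟨_, ⟨p, q, hpq, rfl⟩, rfl⟩
        exact hswap p q hpq
      · rw [Set.ncard_image_of_injective _ hinj, h10, fix_card hD hprim h22 hd hX]
    rw [← himg]
    rintro _ ⟨g, -, rfl⟩
    exact ⟨g, rfl⟩

end Cfsg.Agent.ThreeTransp.M22Prime.Five
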