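import Cfsg.Agent.Lib.ThreeTransp.M22Prime.Prime

/-!
Orbit bounds and products of a subgroup with part of its centraliser.
-/

set_option autoImplicit false
set_option linter.unusedSectionVars false

namespace Cfsg.Agent.ThreeTransp.M22Prime

open Subgroup

variable {G : Type*} [Group G] [Finite G]

/-- The stabiliser of a point whose orbit lies in a set. -/
theorem card_le_orbit (M : Subgroup G) {a : G} {T : Set G} (hT : ∀ g ∈ M, g * a * g⁻¹ ∈ T) :
    Nat.card ↥M ≤ T.ncard * Nat.card ↥(M ⊓ centralizer ({a} : Set G)) := by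
  classical
  have : Nonempty ↥M := ⟨1⟩
  set rep : G → ↥M := Function.invFun (fun g : ↥M => (g : G) * a * (g : G)⁻¹) with hrep
  have hspec : ∀ g : ↥M, (rep ((g : G) * a * (g : G)⁻¹) : G) * a *
      (rep ((g : G) * a * (g : G)⁻¹) : G)⁻¹ = (g : G) * a * (g : G)⁻¹ := fun g =>
    Function.invFun_eq (f := fun g : ↥M => (g : G) * a * (g : G)⁻¹) ⟨g, rfl⟩
  let enc : ↥M → ↥T × ↥(M ⊓ centralizer ({a} : Set G)) := fun g =>
    (⟨_, hT g g.2⟩, ⟨((rep ((g : G) * a * (g : G)⁻¹) : ↥M) : G)⁻¹ * g,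
      M.mul_mem (M.inv_mem (rep _).2) g.2, by
      intro x hx
      rw [Set.mem_singleton_iff.1 hx]
      have e := hspec g
      generalize (rep ((g : G) * a * (g : G)⁻¹) : G) = r at e ⊢
      calc a * (r⁻¹ * g) = r⁻¹ * (r * a * r⁻¹) * g := by group
        _ = r⁻¹ * g * a := by rw [e]; group⟩)
  have hinj : Function.Injective enc := by
    intro g g' h
    have h1 : (g : G) * a * (g : G)⁻¹ = (g' : G) * a * (g' : G)⁻¹ :=
      congrArg (fun p : ↥T × ↥(M ⊓ centralizer ({a} : Set G)) => (p.1 : G)) h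
    have h2 : ((rep ((g : G) * a * (g : G)⁻¹) : ↥M) : G)⁻¹ * g =
        ((rep ((g' : G) * a * (g' : G)⁻¹) : ↥M) : G)⁻¹ * g' :=
      congrArg (fun p : ↥T × ↥(M ⊓ centralizer ({a} : Set G)) => (p.2 : G)) h
    rw [h1] at h2
    exact Subtype.ext (mul_left_cancel h2)
  have h := Nat.card_le_card_of_injective enc hinj
  rwa [Nat.card_prod, Nat.card_coe_set_eq] at h

/-- The product with part of the centraliser of a subgroup without centre. -/
theorem card_product_le {K M : Subgroup G} (hK : K ≤ M)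
    (hZ : K ⊓ centralizer (K : Set G) = ⊥) :
    Nat.card ↥K * Nat.card ↥(M ⊓ centralizer (K : Set G)) ≤
      Nat.card ↥((M ⊓ centralizer (K : Set G)) ⊔ K) ∧
      (M ⊓ centralizer (K : Set G)) ⊔ K ≤ M := by
  refine ⟨?_, sup_le inf_le_left hK⟩
  rw [← Nat.card_prod]
  refine Nat.card_le_card_of_injective
    (fun p : ↥K × ↥(M ⊓ centralizer (K : Set G)) => (⟨(p.1 : G) * p.2,
      mul_mem ((le_sup_right : K ≤ _) p.1.2) ((le_sup_left : _ ≤ _ ⊔ K) p.2.2)⟩ :
        ↥((M ⊓ centralizer (K : Set G)) ⊔ K))) ?_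
  rintro ⟨k, f⟩ ⟨k', f'⟩ h
  have h' : (k : G) * f = k' * f' := congrArg Subtype.val h
  have hmem : (k' : G)⁻¹ * k ∈ K ⊓ centralizer (K : Set G) := by
    refine ⟨K.mul_mem (K.inv_mem k'.2) k.2, ?_⟩
    rw [show (k' : G)⁻¹ * k = f' * (f : G)⁻¹ by
      rw [eq_mul_inv_iff_mul_eq, mul_assoc, h', inv_mul_cancel_left]]
    exact Subgroup.mul_mem _ f'.2.2 (Subgroup.inv_mem _ f.2.2)
  rw [hZ, mem_bot, inv_mul_eq_one] at hmem
  obtain rfl := Subtype.ext hmem.symm
  exact Prod.ext rfl (Subtype.ext (mul_left_cancel h'))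

/-- A group split by a normal subgroup without centre and its centraliser. -/
theorem split_centralizer {K M : Subgroup G} (hK : K ≤ M) (hZ : K ⊓ centralizer (K : Set G) = ⊥)
    {m : ℕ} (hm : Nat.card ↥K = m)
    (hle : Nat.card ↥M ≤ m * Nat.card ↥(M ⊓ centralizer (K : Set G))) :
    Nat.card ↥M = m * Nat.card ↥(M ⊓ centralizer (K : Set G)) ∧
      (M ⊓ centralizer (K : Set G)) ⊔ K = M := by
  obtain ⟨h1, h2⟩ := card_product_le hK hZ
  rw [hm] at h1
  have h3 := Subgroup.card_le_card_group ((M ⊓ centralizer (K : Set G)) ⊔ K)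
  have h4 : Nat.card ↥((M ⊓ centralizer (K : Set G)) ⊔ K) ≤ Nat.card ↥M :=
    Nat.le_of_dvd Nat.card_pos (Subgroup.card_dvd_of_le h2)
  exact ⟨le_antisymm hle (h1.trans h4), Subgroup.eq_of_le_of_card_ge h2 (hle.trans h1)⟩

end Cfsg.Agent.ThreeTransp.M22Prime
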