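import Cfsg.Agent.Lib.ThreeTransp.M22Prime.FiveFix
import Cfsg.Agent.Lib.ThreeTransp.M22Prime.Split

/-!
The subgroups of order five of a group of type M(22): one class, and the structure of their
normalisers.
-/

set_option autoImplicit false
set_option linter.unusedSectionVars false

namespace Cfsg.Agent.ThreeTransp.M22Prime.Five

open Cfsg.Agent.ThreeTransp
open Cfsg.Agent.ThreeTransp.M22Prime
open Cfsg.Agent.ThreeTransp.M22 (Chart exists_chart)
open Cfsg.Agent.ThreeTransp.Factor (nb)
open Subgroup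

variable {G : Type*} [Group G] {D : Set G}

/-- The quintic element used. -/
def quint : Equiv.Perm (Fin 5) :=
  SymFive.adjSwap 0 * SymFive.adjSwap 1 * SymFive.adjSwap 2 * SymFive.adjSwap 3

theorem sym_facts : quint ^ 5 = 1 ∧ quint ≠ 1 ∧
    ¬ Commute quint (Equiv.swap (0 : Fin 5) 1) ∧
    (∀ σ : Equiv.Perm (Fin 5), (∀ τ, σ * τ = τ * σ) → σ = 1) ∧
    (Finset.univ.filter fun σ : Equiv.Perm (Fin 5) =>
      σ * Equiv.swap 0 1 = Equiv.swap 0 1 * σ).card = 12 := by
  refine ⟨by decide +kernel, by decide +kernel, ?_, fun σ h => SymFive.inj_check σ (h _) (h _),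
    by decide +kernel⟩
  show ¬ quint * Equiv.swap (0 : Fin 5) 1 = Equiv.swap 0 1 * quint
  decide +kernel

variable [Finite G] (hD : Cfsg.IsThreeTranspositionGroup D)
  (hprim : Cfsg.IsPrimitiveUnderConj D) (h22 : Cfsg.IsOfTypeM22 G D)

/-- The fixed set of a conjugate. -/
theorem fix_card_conj (hD : Cfsg.IsThreeTranspositionGroup D) (X : Subgroup G) (g : G) :
    (fixIn D (X.map (MulAut.conj g).toMonoidHom)).ncard = (fixIn D X).ncard := by
  have e : fixIn D (X.map (MulAut.conj g).toMonoidHom) = (fun y => g * y * g⁻¹) '' fixIn D X := by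
    refine Set.Subset.antisymm (fun y hy => ⟨g⁻¹ * y * g, ⟨?_, ?_⟩, by group⟩)
      (Set.image_subset_iff.2 fun y hy => conj_mem_fixIn (fun s hs => hD.2.1 g s hs) hy)
    · simpa using hD.2.1 g⁻¹ y hy.1
    · intro x hx
      have h : (g * x * g⁻¹) * y = y * (g * x * g⁻¹) := hy.2 _ ⟨x, hx, rfl⟩
      calc x * (g⁻¹ * y * g) = g⁻¹ * (g * x * g⁻¹ * y) * g := by group
        _ = g⁻¹ * y * g * x := by rw [h]; group
  rw [e, Set.ncard_image_of_injective _ fun p q h => mul_left_cancel (mul_right_cancel h)]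

include hD hprim h22

variable {d : G} {C : Chart D d} {X : Subgroup G}

/-- A subgroup of order five fixing a member is conjugate to the standard one. -/
theorem std_conj (hd : d ∈ D) (hX : IsStd C X) {Y : Subgroup G} (hY : Nat.card ↥Y = 5) {a : G}
    (ha : a ∈ fixIn D Y) : ∃ g : G, Y.map (MulAut.conj g).toMonoidHom = X := by
  have : Fact (Nat.Prime 5) := ⟨by norm_num⟩
  obtain ⟨g, hg⟩ := hprim.1 a ha.1 d hd
  set Y' := Y.map (MulAut.conj g).toMonoidHom with hY'
  have hY'c : Nat.card ↥Y' = 5 := by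
    rw [hY', Nat.card_congr (Y.equivMapOfInjective _ (MulAut.conj g).injective).toEquiv.symm, hY]
  set Z := centralizer ({d} : Set G) with hZ
  have hY'le : Y' ≤ Z := by
    have h := conj_mem_fixIn (g := g) (fun s hs => hD.2.1 g s hs) ha
    rw [hg] at h
    exact (mem_fixIn_iff_le.1 h).2
  have hXle := std_le_centralizer hD hprim h22 hd hX
  have hZc : Nat.card ↥Z = 5 * 3678732288 := by rw [hZ, M22.card_centralizer hD hprim h22 hd]
  obtain ⟨k, hk⟩ := conj_of_card hZc (by norm_num)
    (X := Y'.subgroupOf Z) (Y := X.subgroupOf Z)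
    (by rw [Nat.card_congr (Subgroup.subgroupOfEquivOfLe hY'le).toEquiv, hY'c])
    (by rw [Nat.card_congr (Subgroup.subgroupOfEquivOfLe hXle).toEquiv, hX.1])
  refine ⟨(k : G) * g, ?_⟩
  have h := congrArg (Subgroup.map Z.subtype) hk
  rw [Subgroup.map_map, show Z.subtype.comp (MulAut.conj k).toMonoidHom =
      (MulAut.conj (k : G)).toMonoidHom.comp Z.subtype from rfl, ← Subgroup.map_map,
    Subgroup.map_subgroupOf_eq_of_le hY'le, Subgroup.map_subgroupOf_eq_of_le hXle, hY',
    Subgroup.map_map] at h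
  rw [← h]
  congr 1
  ext y
  simp [mul_assoc]

theorem fix_dvd_five {Y : Subgroup G} {a : G} (ha : a ∈ fixIn D Y) :
    Nat.card ↥Y ∣ 18393661440 := by
  rw [← M22.card_centralizer hD hprim h22 ha.1]
  exact Subgroup.card_dvd_of_le (mem_fixIn_iff_le.1 ha).2

/-- Every subgroup of order five is conjugate to the standard one. -/
theorem all_conj (hd : d ∈ D) (hX : IsStd C X) {Z : Subgroup G} (hZ : Nat.card ↥Z = 5) :
    ∃ g : G, Z.map (MulAut.conj g).toMonoidHom = X := by
  classical
  have : Fact (Nat.Prime 5) := ⟨by norm_num⟩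
  obtain ⟨φ, hinj, h01, hswap, hrange⟩ := exists_sym hD hprim h22 hd hX
  obtain ⟨a, haD, ha⟩ := exists_witness hD hprim h22 hd hX
  obtain ⟨q5, qne, qnc, -, -⟩ := sym_facts
  set y := φ quint with hy
  have hyo : orderOf y = 5 := by
    rw [hy, orderOf_injective φ hinj]; exact orderOf_eq_prime q5 qne
  have hyC : y ∈ centralizer (X : Set G) := by
    have hle : Subgroup.closure (fixIn D X) ≤ centralizer (X : Set G) :=
      (Subgroup.closure_le _).2 fun w hw => hw.2
    exact hle (hrange ▸ ⟨quint, rfl⟩)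
  have hXc : X ≤ centralizer (X : Set G) := self_le_centralizer hX.1
  have hynX : y ∉ X := fun h => qnc (hinj (by
    rw [map_mul, map_mul, h01]
    exact (fix_mem hD hprim h22 hd hX).2 _ h))
  have hya : a ∈ fixIn D (zpowers y) := by
    refine mem_fixIn_iff_le.2 ⟨haD, zpowers_le.2 ?_⟩
    have hle : Subgroup.closure (fixIn D X) ≤ centralizer ({a} : Set G) :=
      (Subgroup.closure_le _).2 fun w hw => fun x hx => by
        rw [Set.mem_singleton_iff.1 hx]; exact ha w hw
    exact hle (hrange ▸ ⟨quint, rfl⟩)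
  -- the group of order 25
  let f : ↥X × ↥(zpowers y) →* G := MonoidHom.noncommCoprod X.subtype (zpowers y).subtype
    fun x w => by
      obtain ⟨k, hk⟩ := w.2
      show Commute (x : G) (w : G)
      rw [← (hk : y ^ k = (w : G))]
      exact Commute.zpow_right (Subgroup.mem_centralizer_iff.1 hyC x x.2) k
  set E := f.range with hE
  have hXE : X ≤ E := fun x hx => ⟨(⟨x, hx⟩, 1), by simp [f]⟩
  have hyE : y ∈ E := ⟨(1, ⟨y, mem_zpowers y⟩), by simp [f]⟩
  have hfinj : Function.Injective f := by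
    rw [injective_iff_map_eq_one]
    rintro ⟨x, w⟩ h
    simp only [f, MonoidHom.noncommCoprod_apply, Subgroup.coe_subtype] at h
    have hw : (w : G) ∈ X := by rw [eq_inv_of_mul_eq_one_right h]; exact inv_mem x.2
    have hw1 : (w : G) = 1 := by
      by_contra hne
      apply hynX
      have hgen : zpowers (w : G) = zpowers y := Subgroup.eq_of_le_of_card_ge
        (zpowers_le.2 w.2) (le_of_eq (by
          rw [Nat.card_zpowers, Nat.card_zpowers, hyo, orderOf_eq_prime (p := 5) ?_ hne]
          obtain ⟨k, hk⟩ := w.2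
          rw [← (hk : y ^ k = (w : G)), ← zpow_natCast, ← zpow_mul, mul_comm, zpow_mul,
            zpow_natCast, ← hyo, pow_orderOf_eq_one, one_zpow]))
      have : y ∈ zpowers (w : G) := by rw [hgen]; exact mem_zpowers y
      exact zpowers_le.2 hw this
    rw [hw1, mul_one] at h
    exact Prod.ext (Subtype.ext h) (Subtype.ext hw1)
  have hEc : Nat.card ↥E = 25 := by
    rw [hE, ← Nat.card_congr (MonoidHom.ofInjective hfinj).toEquiv, Nat.card_prod, hX.1,
      Nat.card_zpowers, hyo]
  -- counting fixed points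
  have : Fintype ↥E := Fintype.ofFinite _
  have : Fintype ↥D := Fintype.ofFinite _
  let act : MulAction ↥E ↥D :=
    { smul := fun e s => ⟨(e : G) * s * (e : G)⁻¹, hD.2.1 _ _ s.2⟩
      one_smul := fun s => Subtype.ext (show (1 : G) * s * (1 : G)⁻¹ = s by group)
      mul_smul := fun e e' s => Subtype.ext (show ((e : G) * e') * s * ((e : G) * e')⁻¹ =
        (e : G) * ((e' : G) * s * (e' : G)⁻¹) * (e : G)⁻¹ by group) }
  have hcount : ∀ e : ↥E, Nat.card (MulAction.fixedBy ↥D e) =
      (fixIn D (zpowers (e : G))).ncard := by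
    intro e
    rw [← Nat.card_coe_set_eq]
    refine Nat.card_congr
      { toFun := fun s => ⟨s.1.1, s.1.2, ?_⟩
        invFun := fun s => ⟨⟨s.1, s.2.1⟩, Subtype.ext ?_⟩
        left_inv := fun s => rfl
        right_inv := fun s => rfl }
    · rintro x ⟨k, rfl⟩
      exact (Commute.zpow_left (mul_inv_eq_iff_eq_mul.1 (congrArg Subtype.val s.2)) k).eq
    · exact mul_inv_eq_iff_eq_mul.2 (s.2.2 _ (mem_zpowers _))
  have hburn := MulAction.sum_card_fixedBy_eq_card_orbits_mul_card_group (G := ↥E) (X := ↥D)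
  simp only [← Nat.card_eq_fintype_card, hEc, hcount] at hburn
  set S : Finset ↥E := Finset.univ.filter fun e : ↥E =>
    e ≠ 1 ∧ (fixIn D (zpowers (e : G))).Nonempty with hS
  have hord : ∀ e : ↥E, e ≠ 1 → orderOf (e : G) = 5 := by
    intro e he
    obtain ⟨⟨x, w⟩, hxw⟩ := e.2
    refine orderOf_eq_prime ?_ fun h => he (Subtype.ext h)
    rw [← hxw, ← map_pow, Prod.pow_mk, show x ^ 5 = 1 from hX.1 ▸ pow_card_eq_one',
      show w ^ 5 = 1 from (by rw [Nat.card_zpowers, hyo] : Nat.card ↥(zpowers y) = 5) ▸ pow_card_eq_one']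
    exact map_one f
  have hten : ∀ e ∈ S, (fixIn D (zpowers (e : G))).ncard = 10 := by
    intro e he
    rw [hS, Finset.mem_filter] at he
    obtain ⟨-, hne, b, hb⟩ := he
    obtain ⟨g, hg⟩ := std_conj hD hprim h22 hd hX
      (by rw [Nat.card_zpowers, hord e hne]) hb
    rw [← fix_card_conj hD (zpowers (e : G)) g, hg, fix_card hD hprim h22 hd hX]
  have hsum : ∑ e : ↥E, (fixIn D (zpowers (e : G))).ncard = 3510 + 10 * S.card := by
    rw [← Finset.add_sum_erase _ _ (Finset.mem_univ (1 : ↥E))]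
    congr 1
    · rw [show fixIn D (zpowers ((1 : ↥E) : G)) = D from ?_, M22.ncard_class hD hprim h22]
      refine Set.Subset.antisymm (fun s hs => hs.1) fun s hs => ⟨hs, fun x hx => ?_⟩
      obtain ⟨k, rfl⟩ := hx
      simp
    · rw [← Finset.sum_filter_ne_zero, Finset.sum_congr rfl (g := fun _ => 10) ?_,
        Finset.sum_const, smul_eq_mul, mul_comm]
      · congr 1
        congr 1
        ext e
        simp only [hS, Finset.mem_filter, Finset.mem_erase, Finset.mem_univ, and_true, true_and,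
          ne_eq, Set.ncard_eq_zero (Set.toFinite _), ← Set.nonempty_iff_ne_empty]
      · intro e he
        simp only [Finset.mem_filter, Finset.mem_erase, Finset.mem_univ, and_true, ne_eq,
          Set.ncard_eq_zero (Set.toFinite _), ← Set.nonempty_iff_ne_empty] at he
        exact hten e (by rw [hS, Finset.mem_filter]; exact ⟨Finset.mem_univ _, he⟩)
  rw [hsum] at hburn
  have h4 : S.card = 4 * (S.image fun e : ↥E => zpowers e).card := by
    rw [Finset.card_eq_sum_card_image (fun e : ↥E => zpowers e) S, mul_comm, ← smul_eq_mul,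
      ← Finset.sum_const]
    refine Finset.sum_congr rfl fun Q hQ => ?_
    obtain ⟨e, he, rfl⟩ := Finset.mem_image.1 hQ
    rw [hS, Finset.mem_filter] at he
    have hQ5 : Nat.card ↥(zpowers e) = 5 := by
      rw [Nat.card_zpowers, ← Subgroup.orderOf_coe, hord e he.2.1]
    have hset : S.filter (fun a => zpowers a = zpowers e) =
        ((zpowers e : Set ↥E).toFinset).erase 1 := by
      ext w
      simp only [hS, Finset.mem_filter, Finset.mem_univ, true_and, Finset.mem_erase,
        Set.mem_toFinset, SetLike.mem_coe]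
      constructor
      · rintro ⟨⟨hw, -⟩, hwe⟩
        exact ⟨hw, hwe ▸ mem_zpowers w⟩
      · rintro ⟨hw, hwe⟩
        have heq : zpowers w = zpowers e := Subgroup.eq_of_le_of_card_ge (zpowers_le.2 hwe)
          (by rw [hQ5, Nat.card_zpowers, ← Subgroup.orderOf_coe, hord w hw])
        refine ⟨⟨hw, ?_⟩, heq⟩
        have e' : zpowers (w : G) = zpowers (e : G) := by
          rw [← Subgroup.coe_subtype, ← MonoidHom.map_zpowers, heq, MonoidHom.map_zpowers]
        rw [e']; exact he.2.2
    rw [hset, Finset.card_erase_of_mem (Set.mem_toFinset.2 (one_mem (zpowers e))),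
      ← Set.ncard_eq_toFinset_card', ← Nat.card_coe_set_eq]
    show Nat.card ↥(zpowers e) - 1 = 4
    rw [hQ5]
  have hdf := fix_mem hD hprim h22 hd hX
  have hS24 : S.card = 24 := by
    have hle : S.card ≤ 24 := by
      refine (Finset.card_le_card (t := Finset.univ.erase (1 : ↥E)) fun e he => ?_).trans ?_
      · rw [hS, Finset.mem_filter] at he
        exact Finset.mem_erase.2 ⟨he.2.1, he.1⟩
      · rw [Finset.card_erase_of_mem (Finset.mem_univ _), Finset.card_univ,
          ← Nat.card_eq_fintype_card, hEc]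
    have hge : 2 ≤ (S.image fun e : ↥E => zpowers e).card := by
      obtain ⟨x, hx, hxo, hgen⟩ := exists_generator hX.1
      have hy1 : y ≠ 1 := fun h => by rw [h, orderOf_one] at hyo; norm_num at hyo
      have hx1 : x ≠ 1 := fun h => by rw [h, orderOf_one] at hxo; norm_num at hxo
      have hsub : ({⟨x, hXE hx⟩, ⟨y, hyE⟩} : Finset ↥E) ⊆ S := by
        intro e he
        rw [hS, Finset.mem_filter]
        rcases Finset.mem_insert.1 he with rfl | he
        · exact ⟨Finset.mem_univ _, fun h => hx1 (congrArg Subtype.val h), d, hgen ▸ hdf⟩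
        · rw [Finset.mem_singleton] at he
          subst he
          exact ⟨Finset.mem_univ _, fun h => hy1 (congrArg Subtype.val h), a, hya⟩
      refine le_trans (le_of_eq ?_)
        (Finset.card_le_card (Finset.image_subset_image hsub (f := fun e : ↥E => zpowers e)))
      rw [Finset.image_insert, Finset.image_singleton, Finset.card_pair]
      intro h
      have hmem : (⟨y, hyE⟩ : ↥E) ∈ zpowers (⟨x, hXE hx⟩ : ↥E) := by
        rw [h]; exact mem_zpowers _
      obtain ⟨k, hk⟩ := hmem
      have e : x ^ k = y := congrArg Subtype.val hk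
      exact hynX (e ▸ zpow_mem hx k)
    omega
  -- every element of `E` other than `1` fixes a member
  have hall : ∀ e : ↥E, e ≠ 1 → (fixIn D (zpowers (e : G))).Nonempty := by
    intro e he
    have hSeq : S = Finset.univ.erase (1 : ↥E) := by
      refine Finset.eq_of_subset_of_card_le (fun w hw => ?_) ?_
      · rw [hS, Finset.mem_filter] at hw
        exact Finset.mem_erase.2 ⟨hw.2.1, hw.1⟩
      · rw [Finset.card_erase_of_mem (Finset.mem_univ _), Finset.card_univ,
          ← Nat.card_eq_fintype_card, hEc, hS24]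
    have : e ∈ S := hSeq ▸ Finset.mem_erase.2 ⟨he, Finset.mem_univ _⟩
    rw [hS, Finset.mem_filter] at this
    exact this.2.2
  -- `E` is a Sylow subgroup
  obtain ⟨P, hP⟩ := (IsPGroup.of_card (p := 5) (n := 2) hEc).exists_le_sylow (G := G)
  obtain ⟨Q, hQ⟩ := (pgroup_five hD hprim h22 hZ).exists_le_sylow (G := G)
  have hPE : (P : Subgroup G) = E := by
    refine (Subgroup.eq_of_le_of_card_ge hP ?_).symm
    have hPd := Subgroup.card_subgroup_dvd_card (P : Subgroup G)
    obtain ⟨k, hk⟩ := IsPGroup.iff_card.1 P.2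
    rw [hk, M22.card_group hD hprim h22] at hPd
    have hk2 : k ≤ 2 := by
      by_contra h
      have := (pow_dvd_pow 5 (show 3 ≤ k by omega)).trans hPd
      norm_num at this
    rw [hEc, hk]
    exact (Nat.pow_le_pow_right (by norm_num) hk2).trans (by norm_num)
  obtain ⟨g, hg⟩ := MulAction.exists_smul_eq G Q P
  set Z' := Z.map (MulAut.conj g).toMonoidHom with hZ'
  have hZ'c : Nat.card ↥Z' = 5 := by
    rw [hZ', Nat.card_congr (Z.equivMapOfInjective _ (MulAut.conj g).injective).toEquiv.symm, hZ]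
  have hZ'E : Z' ≤ E := by
    rw [← hPE, ← hg, hZ']
    exact Subgroup.map_mono (f := (MulAut.conj g).toMonoidHom) hQ
  obtain ⟨z, hz, hzo, hzgen⟩ := exists_generator hZ'c
  obtain ⟨b, hb⟩ := hall ⟨z, hZ'E hz⟩ fun h => by
    rw [show z = 1 from congrArg Subtype.val h, orderOf_one] at hzo
    norm_num at hzo
  obtain ⟨k, hk⟩ := std_conj hD hprim h22 hd hX hZ'c
    (show b ∈ fixIn D Z' from hzgen ▸ hb)
  refine ⟨k * g, ?_⟩
  rw [← hk, hZ', Subgroup.map_map]
  congr 1
  ext w
  simp [mul_assoc]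

theorem five_conj (X Y : Subgroup G) (hX : Nat.card ↥X = 5) (hY : Nat.card ↥Y = 5) :
    ∃ g : G, X.map (MulAut.conj g).toMonoidHom = Y := by
  obtain ⟨d, hd, -⟩ := hprim.2.1
  obtain ⟨C⟩ := exists_chart hD h22 hd
  obtain ⟨X₀, hX₀⟩ := exists_std hD hprim h22 hd C
  obtain ⟨g, hg⟩ := all_conj hD hprim h22 hd hX₀ hX
  obtain ⟨k, hk⟩ := all_conj hD hprim h22 hd hX₀ hY
  refine ⟨k⁻¹ * g, ?_⟩
  have e : (MulAut.conj (k⁻¹ * g)).toMonoidHom =
      (MulAut.conj k⁻¹).toMonoidHom.comp (MulAut.conj g).toMonoidHom := by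
    ext w; simp [mul_assoc]
  rw [e, ← Subgroup.map_map, hg, ← hk, Subgroup.map_map]
  convert Subgroup.map_id Y using 2
  ext w
  simp [mul_assoc]

/-- Orders inside the centraliser of the member. -/
theorem orders_at (hd : d ∈ D) (hX : IsStd C X) :
    Nat.card ↥(normalizer (X : Set G) ⊓ centralizer ({d} : Set G)) = 240 ∧
      Nat.card ↥(centralizer (X : Set G) ⊓ centralizer ({d} : Set G)) = 60 := by
  classical
  have : Fact (Nat.Prime 5) := ⟨by norm_num⟩
  obtain ⟨Y, hYdef, hY, hN, hC⟩ := card_at hD hprim h22 hd C (by norm_num) hX.1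
    (std_le_centralizer hD hprim h22 hd hX)
  rw [hX.2.2] at hYdef
  subst hYdef
  obtain ⟨hle, hNC⟩ := psu_five C.hF
  obtain ⟨n, hn, hmod, -⟩ := sylow_congr (G := Cfsg.PSU 6 C.F 2) (p := 5) (m := 1839366144)
    (by rw [natCard_PSU C.hF]) (by norm_num) hY
  set Y := Subgroup.zpowers (y0 C.hF) with hYd
  obtain ⟨c, hc⟩ : 5 ∣ Nat.card ↥(centralizer (Y : Set (Cfsg.PSU 6 C.F 2))) :=
    hY.symm.dvd.trans (Subgroup.card_dvd_of_le (self_le_centralizer hY))
  -- the part of the symmetric group inside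
  obtain ⟨φ, hinj, h01, -, hrange⟩ := exists_sym hD hprim h22 hd hX
  set S01 := centralizer ({Equiv.swap (0 : Fin 5) 1} : Set (Equiv.Perm (Fin 5))) with hS01
  have h12 : Nat.card ↥S01 = 12 := by
    rw [Nat.card_eq_fintype_card, Fintype.card_subtype]
    rw [← sym_facts.2.2.2.2]
    congr 1
    ext σ
    simp [hS01, Subgroup.mem_centralizer_iff, eq_comm]
  have hH : S01.map φ ≤ centralizer (X : Set G) ⊓ centralizer ({d} : Set G) := by
    rintro _ ⟨σ, hσ, rfl⟩
    refine ⟨?_, ?_⟩
    · have hle' : Subgroup.closure (fixIn D X) ≤ centralizer (X : Set G) :=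
        (Subgroup.closure_le _).2 fun w hw => hw.2
      exact hle' (hrange ▸ ⟨σ, rfl⟩)
    · intro w hw
      rw [Set.mem_singleton_iff.1 hw, ← h01, ← map_mul, ← map_mul,
        Subgroup.mem_centralizer_iff.1 hσ _ rfl]
  have hXle : X ≤ centralizer (X : Set G) ⊓ centralizer ({d} : Set G) :=
    le_inf (self_le_centralizer hX.1) (std_le_centralizer hD hprim h22 hd hX)
  have d1 := Subgroup.card_dvd_of_le hH
  have d2 := Subgroup.card_dvd_of_le hXle
  rw [← Nat.card_congr (S01.equivMapOfInjective φ hinj).toEquiv, h12] at d1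
  rw [hX.1] at d2
  have d60 := Nat.Coprime.mul_dvd_of_dvd_of_dvd (by norm_num) d1 d2
  rw [hC, hc] at d60
  have h6 : 6 ∣ c := by omega
  rw [hn, hc] at hNC
  have hn4 : n = 4 * c := by omega
  rw [hn4] at hmod
  have hc6 : c = 6 := by
    rw [hc] at hle
    have : c ≤ 19 := by omega
    interval_cases c <;> first | rfl | omega | (norm_num [Nat.ModEq] at hmod)
  rw [hc, hc6] at hC
  rw [hn, hn4, hc6] at hN
  exact ⟨hN, hC⟩

theorem orders (hd : d ∈ D) (hX : IsStd C X) :
    Nat.card ↥(normalizer (X : Set G)) = 2400 ∧ Nat.card ↥(centralizer (X : Set G)) = 600 := by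
  obtain ⟨hN, hC⟩ := orders_at hD hprim h22 hd hX
  have hdf := fix_mem hD hprim h22 hd hX
  have key : ∀ M : Subgroup G, centralizer (X : Set G) ≤ M → M ≤ normalizer (X : Set G) →
      Nat.card ↥M = 10 * Nat.card ↥(M ⊓ centralizer ({d} : Set G)) := by
    intro M h1 h2
    rw [← fix_card hD hprim h22 hd hX]
    refine card_mul_stab hD hprim h22 (a := d) M (Set.Subset.antisymm ?_ fun a ha => ?_)
    · rintro _ ⟨g, hg, rfl⟩
      exact fixIn_normalizer (fun g s hs => hD.2.1 g s hs) (h2 hg) hdf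
    · obtain ⟨g, hg, e⟩ := fix_trans hD hprim h22 hd hX ha
      exact ⟨g, h1 hg, e⟩
  exact ⟨by rw [key _ (centralizer_le_normalizer _) le_rfl, hN],
    by rw [key _ le_rfl (centralizer_le_normalizer _), hC]⟩

/-- The normaliser of the standard subgroup. -/
theorem std_normalizer (hd : d ∈ D) (hX : IsStd C X) :
    ∃ F : Subgroup G, Nat.card ↥F = 20 ∧ X ≤ F ∧ F ⊓ centralizer (X : Set G) = X ∧
      F ⊓ Subgroup.closure (fixIn D X) = ⊥ ∧
      (∀ x ∈ F, ∀ y ∈ Subgroup.closure (fixIn D X), x * y = y * x) ∧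
      F ⊔ Subgroup.closure (fixIn D X) = normalizer (X : Set G) ∧
      Nonempty (↥(Subgroup.closure (fixIn D X)) ≃* Equiv.Perm (Fin 5)) := by
  classical
  have : Fact (Nat.Prime 5) := ⟨by norm_num⟩
  obtain ⟨φ, hinj, h01, hswap, hrange⟩ := exists_sym hD hprim h22 hd hX
  set K := Subgroup.closure (fixIn D X) with hK
  set N := normalizer (X : Set G) with hNdef
  have hKC : K ≤ centralizer (X : Set G) := (Subgroup.closure_le _).2 fun w hw => hw.2
  have hKN : K ≤ N := hKC.trans (centralizer_le_normalizer _)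
  have hKc : Nat.card ↥K = 120 := by
    rw [← hrange, ← Nat.card_congr (MonoidHom.ofInjective hinj).toEquiv,
      Nat.card_eq_fintype_card, Fintype.card_perm, Fintype.card_fin]
    rfl
  have hZ : K ⊓ centralizer (K : Set G) = ⊥ := by
    refine eq_bot_iff.2 ?_
    rintro w ⟨hw, hwc⟩
    rw [← hrange] at hw
    obtain ⟨σ, rfl⟩ := hw
    rw [Subgroup.mem_bot, sym_facts.2.2.2.1 σ fun τ => hinj ?_, map_one]
    rw [map_mul, map_mul]
    exact (hwc (φ τ) (hrange ▸ ⟨τ, rfl⟩)).symm
  -- bound by the orbits on a chain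
  have hbound : ∀ M : Subgroup G, M ≤ N →
      Nat.card ↥M ≤ 120 * Nat.card ↥(M ⊓ centralizer (K : Set G)) := by
    intro M hM
    set x := φ (Equiv.swap 2 3) with hx
    set y := φ (Equiv.swap 3 4) with hy
    set z := φ (Equiv.swap 1 2) with hz
    have hcomm : ∀ p q r s : Fin 5, Equiv.swap p q * Equiv.swap r s = Equiv.swap r s * Equiv.swap p q →
        Commute (φ (Equiv.swap p q)) (φ (Equiv.swap r s)) := fun p q r s h => by
      show _ * _ = _ * _
      rw [← map_mul, h, map_mul]
    have hdx : x ∈ fixIn (nb D d) X := ⟨⟨(hswap 2 3 (by decide)).1, fun e => by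
        rw [← h01] at e; exact absurd (hinj e) (by decide +kernel),
      h01 ▸ hcomm 0 1 2 3 (by decide +kernel)⟩, (hswap 2 3 (by decide)).2⟩
    have hdy : y ∈ fixIn (nb D d) X := ⟨⟨(hswap 3 4 (by decide)).1, fun e => by
        rw [← h01] at e; exact absurd (hinj e) (by decide +kernel),
      h01 ▸ hcomm 0 1 3 4 (by decide +kernel)⟩, (hswap 3 4 (by decide)).2⟩
    have hyz : z ∈ fixIn (nb D y) X \ {d} := ⟨⟨⟨(hswap 1 2 (by decide)).1, fun e =>
        absurd (hinj e) (by decide +kernel), hcomm 3 4 1 2 (by decide +kernel)⟩,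
      (hswap 1 2 (by decide)).2⟩, fun e => absurd (hinj (e.trans h01.symm)) (by decide +kernel)⟩
    have hyx : x ≠ y := fun e => absurd (hinj e) (by decide +kernel)
    have hmove : ∀ g ∈ N, ∀ a b : G, g * a * g⁻¹ = a → b ∈ fixIn (nb D a) X →
        g * b * g⁻¹ ∈ fixIn (nb D a) X := fun g hg a b e hb => e ▸ conj_nb_fix hD hg hb
    have fx : ∀ {g a : G}, g ∈ centralizer ({a} : Set G) → g * a * g⁻¹ = a := fun {g a} h =>
      mul_inv_eq_iff_eq_mul.2 (h a rfl).symm
    have b1 := card_le_orbit M (a := d) (T := fixIn D X) fun g hg =>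
      fixIn_normalizer (fun g s hs => hD.2.1 g s hs) (hM hg) (fix_mem hD hprim h22 hd hX)
    have b2 := card_le_orbit (M ⊓ centralizer ({d} : Set G)) (a := x) (T := fixIn (nb D d) X)
      fun g hg => hmove g (hM hg.1) d x (fx hg.2) hdx
    have b3 := card_le_orbit (M ⊓ centralizer ({d} : Set G) ⊓ centralizer ({x} : Set G)) (a := y)
      (T := fixIn (nb D d) X \ {x}) fun g hg =>
        ⟨hmove g (hM hg.1.1) d y (fx hg.1.2) hdy, fun e => hyx (by
          rw [Set.mem_singleton_iff, ← fx hg.2] at e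
          exact (mul_left_cancel (mul_right_cancel e)).symm)⟩
    have b4 := card_le_orbit (M ⊓ centralizer ({d} : Set G) ⊓ centralizer ({x} : Set G) ⊓
        centralizer ({y} : Set G)) (a := z) (T := fixIn (nb D y) X \ {d}) fun g hg =>
        ⟨hmove g (hM hg.1.1.1) y z (fx hg.2) hyz.1, fun e => hyz.2 (by
          rw [Set.mem_singleton_iff, ← fx hg.1.1.2] at e
          exact mul_left_cancel (mul_right_cancel e))⟩
    rw [fix_card hD hprim h22 hd hX] at b1
    rw [(fix_nb hD hprim h22 hd hX).1] at b2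
    rw [Set.ncard_sdiff_singleton_of_mem hdx, (fix_nb hD hprim h22 hd hX).1] at b3
    rw [(two_beyond hD hprim h22 hd hX hdy).1] at b4
    have hlast : Nat.card ↥(M ⊓ centralizer ({d} : Set G) ⊓ centralizer ({x} : Set G) ⊓
        centralizer ({y} : Set G) ⊓ centralizer ({z} : Set G)) ≤
        Nat.card ↥(M ⊓ centralizer (K : Set G)) := by
      refine Nat.le_of_dvd Nat.card_pos (Subgroup.card_dvd_of_le ?_)
      rintro g ⟨⟨⟨⟨hgM, gd⟩, gx⟩, gy⟩, gz⟩
      refine ⟨hgM, ?_⟩
      rw [← hrange]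
      rintro _ ⟨σ, rfl⟩
      have hσ : σ ∈ Submonoid.closure (Set.range fun i : Fin 4 => Equiv.swap i.castSucc i.succ) := by
        rw [Equiv.Perm.mclosure_swap_castSucc_succ 4]; exact Submonoid.mem_top σ
      show Commute (φ σ) g
      induction hσ using Submonoid.closure_induction with
      | mem w hw =>
        obtain ⟨i, rfl⟩ := hw
        fin_cases i
        exacts [h01.symm ▸ gd d rfl, gz z rfl, gx x rfl, gy y rfl]
      | one => rw [map_one]; exact Commute.one_left g
      | mul p q _ _ hp hq => rw [map_mul]; exact hp.mul_left hq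
    omega
  obtain ⟨hNo, hCo⟩ := orders hD hprim h22 hd hX
  obtain ⟨hs, hsup⟩ := split_centralizer hKN hZ hKc (hbound N le_rfl)
  obtain ⟨hsC, -⟩ := split_centralizer hKC hZ hKc (hbound _ (centralizer_le_normalizer _))
  rw [hNo] at hs
  rw [hCo] at hsC
  have hXK : X ≤ centralizer (K : Set G) := fun x hx w hw => (hKC hw x hx).symm
  refine ⟨N ⊓ centralizer (K : Set G), by omega, le_inf le_normalizer hXK, ?_, ?_, ?_, hsup,
    ⟨((MonoidHom.ofInjective hinj).trans (MulEquiv.subgroupCongr hrange)).symm⟩⟩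
  · refine (Subgroup.eq_of_le_of_card_ge
      (le_inf (le_inf le_normalizer hXK) (self_le_centralizer hX.1)) ?_).symm
    rw [hX.1]
    refine le_trans (Nat.le_of_dvd Nat.card_pos (Subgroup.card_dvd_of_le
      (show (N ⊓ centralizer (K : Set G)) ⊓ centralizer (X : Set G) ≤
        centralizer (X : Set G) ⊓ centralizer (K : Set G) from
          le_inf inf_le_right (inf_le_left.trans inf_le_right)))) ?_
    omega
  · refine eq_bot_iff.2 ?_
    rw [← hZ]
    exact le_inf inf_le_right (inf_le_left.trans inf_le_right)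
  · exact fun x hx y hy => (hx.2 y hy).symm

theorem five_normalizer (X : Subgroup G) (hX : Nat.card ↥X = 5) :
    ∃ F : Subgroup G, Nat.card ↥F = 20 ∧ X ≤ F ∧ F ⊓ centralizer (X : Set G) = X ∧
      F ⊓ Subgroup.closure (D ∩ (centralizer (X : Set G) : Set G)) = ⊥ ∧
      (∀ x ∈ F, ∀ y ∈ Subgroup.closure (D ∩ (centralizer (X : Set G) : Set G)), x * y = y * x) ∧
      F ⊔ Subgroup.closure (D ∩ (centralizer (X : Set G) : Set G)) = normalizer (X : Set G) ∧
      Nonempty (↥(Subgroup.closure (D ∩ (centralizer (X : Set G) : Set G))) ≃*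
        Equiv.Perm (Fin 5)) := by
  have : Fact (Nat.Prime 5) := ⟨by norm_num⟩
  obtain ⟨a, ha, -⟩ := hprim.2.1
  obtain ⟨C⟩ := exists_chart hD h22 ha
  obtain ⟨X₀, hX₀⟩ := exists_std hD hprim h22 ha C
  obtain ⟨g, hg⟩ := all_conj hD hprim h22 ha hX₀ hX
  -- a fixed member of `X`, where `X` is standard
  obtain ⟨d, hd⟩ : (fixIn D X).Nonempty := by
    refine Set.nonempty_of_ncard_ne_zero ?_
    rw [← fix_card_conj hD X g, hg, fix_card hD hprim h22 ha hX₀]
    norm_num
  obtain ⟨hdD, hXd⟩ := mem_fixIn_iff_le.1 hd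
  obtain ⟨C₁⟩ := exists_chart hD h22 hdD
  obtain ⟨X₁, hX₁⟩ := exists_std hD hprim h22 hdD C₁
  -- move the standard subgroup at `d` onto `X` fixing `d`
  set Z := centralizer ({d} : Set G) with hZ
  have hX₁le := std_le_centralizer hD hprim h22 hdD hX₁
  have hZc : Nat.card ↥Z = 5 * 3678732288 := by rw [hZ, M22.card_centralizer hD hprim h22 hdD]
  obtain ⟨k, hk⟩ := conj_of_card hZc (by norm_num)
    (X := X.subgroupOf Z) (Y := X₁.subgroupOf Z)
    (by rw [Nat.card_congr (Subgroup.subgroupOfEquivOfLe hXd).toEquiv, hX])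
    (by rw [Nat.card_congr (Subgroup.subgroupOfEquivOfLe hX₁le).toEquiv, hX₁.1])
  have h := congrArg (Subgroup.map Z.subtype) hk
  rw [Subgroup.map_map, show Z.subtype.comp (MulAut.conj k).toMonoidHom =
      (MulAut.conj (k : G)).toMonoidHom.comp Z.subtype from rfl, ← Subgroup.map_map,
    Subgroup.map_subgroupOf_eq_of_le hXd, Subgroup.map_subgroupOf_eq_of_le hX₁le] at h
  obtain ⟨F, h1, h2, h3, h4, h5, h6, ⟨e⟩⟩ := std_normalizer hD hprim h22 hdD hX₁
  subst h
  -- transport by conjugation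
  set c := MulAut.conj (k : G) with hc
  have hfix : fixIn D (X.map c.toMonoidHom) = c '' fixIn D X := by
    refine Set.Subset.antisymm (fun y hy => ⟨c.symm y, ?_, c.apply_symm_apply y⟩)
      (Set.image_subset_iff.2 fun y hy => conj_mem_fixIn (fun s hs => hD.2.1 _ s hs) hy)
    refine ⟨by simpa [hc] using hD.2.1 (k : G)⁻¹ y hy.1, fun x hx => c.injective ?_⟩
    rw [map_mul, map_mul, c.apply_symm_apply]
    exact hy.2 _ ⟨x, hx, rfl⟩
  set K := Subgroup.closure (D ∩ (centralizer (X : Set G) : Set G)) with hK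
  have hKmap : Subgroup.closure (fixIn D (X.map c.toMonoidHom)) = K.map c.toMonoidHom := by
    rw [hfix, hK, MonoidHom.map_closure]; rfl
  have hCmap : centralizer ((X.map c.toMonoidHom : Subgroup G) : Set G) =
      (centralizer (X : Set G)).map c.toMonoidHom :=
    by
      ext w
      rw [Subgroup.mem_centralizer_iff]
      constructor
      · intro h
        refine ⟨c.symm w, fun x hx => c.injective ?_, c.apply_symm_apply w⟩
        rw [map_mul, map_mul, c.apply_symm_apply]
        exact h _ ⟨x, hx, rfl⟩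
      · rintro ⟨v, hv, rfl⟩ _ ⟨x, hx, rfl⟩
        rw [← map_mul, ← map_mul, hv x hx]
  rw [hKmap] at h4 h5 h6 e
  refine ⟨F.comap c.toMonoidHom, ?_, ?_, ?_, ?_, ?_, ?_, ⟨(K.equivMapOfInjective _ c.injective).trans e⟩⟩
  · rw [← h1]
    rw [card_comap c.toMonoidHom c.surjective F, (MonoidHom.ker_eq_bot_iff _).2 c.injective,
      Subgroup.card_bot, one_mul]
  · exact Subgroup.map_le_iff_le_comap.1 h2
  · refine Subgroup.map_injective (f := c.toMonoidHom) c.injective ?_
    rw [Subgroup.map_inf _ _ _ c.injective, Subgroup.map_comap_eq_self_of_surjective c.surjective,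
      ← hCmap, h3]
  · refine Subgroup.map_injective (f := c.toMonoidHom) c.injective ?_
    rw [Subgroup.map_inf _ _ _ c.injective, Subgroup.map_comap_eq_self_of_surjective c.surjective,
      h4, Subgroup.map_bot]
  · intro x hx y hy
    refine c.injective ?_
    rw [map_mul, map_mul]
    exact h5 _ hx _ ⟨y, hy, rfl⟩
  · refine Subgroup.map_injective (f := c.toMonoidHom) c.injective ?_
    rw [Subgroup.map_sup, Subgroup.map_comap_eq_self_of_surjective c.surjective, h6,
      Subgroup.map_normalizer_eq_of_bijective _ c.bijective]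

end Cfsg.Agent.ThreeTransp.M22Prime.Five
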