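import Cfsg.Agent.Lib.ThreeTransp.M22Prime.FiveUnitary
import Cfsg.Agent.Lib.ThreeTransp.SymFive

/-!
A subgroup of order five given by a five-cycle at one member of a group of type M(22), the fixed
members next to that member, and a member centralising all the fixed ones.
-/

set_option autoImplicit false
set_option linter.unusedSectionVars false

namespace Cfsg.Agent.ThreeTransp.M22Prime.Five

open Matrix Cfsg.Agent.Classical.Unitary
open Cfsg.Agent.GroupStructure3.ThreeTransUnitary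
open Cfsg.Agent.ThreeTransp
open Cfsg.Agent.ThreeTransp.M22Prime
open Cfsg.Agent.ThreeTransp.M22 (Chart exists_chart)
open Cfsg.Agent.ThreeTransp.Factor (nb Hd mem_Hd Hd_commute)

variable {G : Type*} [Group G] {D : Set G}

/-- The isotropic vectors of the four adjacent transpositions. -/
def step {F : Type*} [Field F] : Fin 4 → Fin 6 → F :=
  ![![1, 1, 0, 0, 0, 0], ![0, 1, 1, 0, 0, 0], ![0, 0, 1, 1, 0, 0], ![0, 0, 0, 1, 1, 0]]

section Vectors

variable {F : Type*} [Field F] [Fintype F] (hF : Fintype.card F = 2 ^ 2)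
include hF

theorem step_iso (i : Fin 4) : Cfsg.hermForm 6 F 2 (step i) (step i) = 0 ∧ step i ≠ (0 : Fin 6 → F) := by
  have h2 := two_zero hF
  fin_cases i
  all_goals
    refine ⟨?_, fun h => ?_⟩
    · rw [H_six hF]; simp [step]; linear_combination h2
    · first
        | exact one_ne_zero (α := F) (by simpa [step] using congrFun h 1)
        | exact one_ne_zero (α := F) (by simpa [step] using congrFun h 3)

theorem step_gram :
    Cfsg.hermForm 6 F 2 (step 0) (step 1) ≠ 0 ∧ Cfsg.hermForm 6 F 2 (step 1) (step 2) ≠ 0 ∧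
    Cfsg.hermForm 6 F 2 (step 2) (step 3) ≠ (0 : F) ∧
    Cfsg.hermForm 6 F 2 (step 0) (step 2) = 0 ∧ Cfsg.hermForm 6 F 2 (step 0) (step 3) = 0 ∧
    Cfsg.hermForm 6 F 2 (step 1) (step 3) = (0 : F) := by
  simp [H_six hF, step]

theorem step_fixed (b : F) (i : Fin 4) :
    Cfsg.hermForm 6 F 2 (five + b • last) (step i) = 0 := by
  have h2 := two_zero hF
  fin_cases i <;> (rw [H_six hF]; simp [step, five, last]; linear_combination h2)

theorem perm_swap_step :
    UnitaryClass.perm hF (Equiv.swap 0 1) = tr hF (step_iso hF 0).1 ∧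
    UnitaryClass.perm hF (Equiv.swap 1 2) = tr hF (step_iso hF 1).1 ∧
    UnitaryClass.perm hF (Equiv.swap 2 3) = tr hF (step_iso hF 2).1 ∧
    UnitaryClass.perm hF (Equiv.swap 3 4) = tr hF (step_iso hF 3).1 := by
  have h2 := two_zero hF
  refine ⟨?_, ?_, ?_, ?_⟩
  all_goals
    refine SU_ext fun x => ?_
    rw [perm_mulVec hF, tr_mulVec, H_six hF]
    funext i
    fin_cases i <;> simp [step, Equiv.swap_apply_def] <;> grind

theorem g0_prod : g0 hF = tr hF (step_iso hF 0).1 * tr hF (step_iso hF 1).1 *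
    tr hF (step_iso hF 2).1 * tr hF (step_iso hF 3).1 := by
  obtain ⟨a, b, c, d⟩ := perm_swap_step hF
  rw [g0, cyc, map_mul, map_mul, map_mul, a, b, c, d]

theorem eq_one_of_five_three {c : F} (h5 : c ^ 5 = 1) : c = 1 := by
  have hc : c ≠ 0 := fun e => by rw [e, zero_pow (by norm_num)] at h5; exact zero_ne_one h5
  have h3 := cube hF hc
  calc c = c * (c ^ 3) ^ 3 := by rw [h3, one_pow, mul_one]
    _ = (c ^ 5) ^ 2 := by ring
    _ = 1 := by rw [h5, one_pow]

/-- Four transvections along a path have only orthogonal fixed vectors, given a vector orthogonal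
to all four and not to the fixed one. -/
theorem chain_fixed {u : Fin 4 → Fin 6 → F} (hu : ∀ i, Cfsg.hermForm 6 F 2 (u i) (u i) = 0)
    (h01 : Cfsg.hermForm 6 F 2 (u 0) (u 1) ≠ 0)
    (h23 : Cfsg.hermForm 6 F 2 (u 2) (u 3) ≠ 0) (h02 : Cfsg.hermForm 6 F 2 (u 0) (u 2) = 0)
    (h03 : Cfsg.hermForm 6 F 2 (u 0) (u 3) = 0) (h13 : Cfsg.hermForm 6 F 2 (u 1) (u 3) = 0)
    {q w : Fin 6 → F} (hq : ∀ i, Cfsg.hermForm 6 F 2 (u i) q = 0)
    (hwq : Cfsg.hermForm 6 F 2 w q ≠ 0) {c : F}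
    (hfix : mat (tr hF (hu 0) * tr hF (hu 1) * tr hF (hu 2) * tr hF (hu 3)) *ᵥ w = c • w) :
    ∀ i, Cfsg.hermForm 6 F 2 w (u i) = 0 := by
  simp only [mul_mulVec, tr_mulVec] at hfix
  set k3 := Cfsg.hermForm 6 F 2 w (u 3) with hk3
  set k2 := Cfsg.hermForm 6 F 2 (w + k3 • u 3) (u 2) with hk2
  set k1 := Cfsg.hermForm 6 F 2 (w + k3 • u 3 + k2 • u 2) (u 1) with hk1
  set k0 := Cfsg.hermForm 6 F 2 (w + k3 • u 3 + k2 • u 2 + k1 • u 1) (u 0) with hk0
  have hc : c = 1 := by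
    have h := congrArg (fun v => Cfsg.hermForm 6 F 2 v q) hfix
    simp only [H_add_left, H_smul_left, hq, mul_zero, add_zero] at h
    exact mul_right_cancel₀ hwq (h.symm.trans (one_mul _).symm)
  rw [hc, one_smul] at hfix
  have hsum : k3 • u 3 + k2 • u 2 + k1 • u 1 + k0 • u 0 = 0 := by
    refine add_left_cancel (a := w) ?_
    rw [add_zero]
    nth_rw 2 [← hfix]
    module
  have hs : ∀ i, k3 * Cfsg.hermForm 6 F 2 (u 3) (u i) + k2 * Cfsg.hermForm 6 F 2 (u 2) (u i) +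
      k1 * Cfsg.hermForm 6 F 2 (u 1) (u i) + k0 * Cfsg.hermForm 6 F 2 (u 0) (u i) = 0 := fun i => by
    have h := congrArg (fun v => Cfsg.hermForm 6 F 2 v (u i)) hsum
    simpa only [H_add_left, H_smul_left, H_zero_left] using h
  have sym : ∀ {a b : Fin 6 → F}, Cfsg.hermForm 6 F 2 a b = 0 → Cfsg.hermForm 6 F 2 b a = 0 :=
    fun h => (H_eq_zero_comm hF).1 h
  have e3 := hs 3
  simp only [hu, h13, h03, mul_zero, add_zero, zero_add] at e3
  have z2 : k2 = 0 := (mul_eq_zero.1 e3).resolve_right h23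
  have e0 := hs 0
  simp only [hu, sym h03, sym h02, mul_zero, add_zero, zero_add] at e0
  have z1 : k1 = 0 := (mul_eq_zero.1 e0).resolve_right fun e => h01 (sym e)
  have e1 := hs 1
  simp only [hu, sym h13, z2, mul_zero, zero_mul, add_zero, zero_add] at e1
  have z0 : k0 = 0 := (mul_eq_zero.1 e1).resolve_right h01
  have e2 := hs 2
  simp only [z2, z1, z0, zero_mul, add_zero] at e2
  have z3 : k3 = 0 := (mul_eq_zero.1 e2).resolve_right fun e => h23 (sym e)
  rw [z3, zero_smul, add_zero] at hk2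
  rw [z3, z2, zero_smul, zero_smul, add_zero, add_zero] at hk1
  rw [z3, z2, z1, zero_smul, zero_smul, zero_smul, add_zero, add_zero, add_zero] at hk0
  intro i
  fin_cases i
  · exact hk0.symm.trans z0
  · exact hk1.symm.trans z1
  · exact hk2.symm.trans z2
  · exact hk3.symm.trans z3

end Vectors

/-- `X` is the subgroup of order five given by the five-cycle in the chart `C`. -/
def IsStd {d : G} (C : Chart D d) (X : Subgroup G) : Prop :=
  Nat.card ↥X = 5 ∧ X ≤ Hd D d ∧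
    (X.subgroupOf (Hd D d)).map C.ρ = Subgroup.zpowers (y0 C.hF)

variable [Finite G] (hD : Cfsg.IsThreeTranspositionGroup D)
  (hprim : Cfsg.IsPrimitiveUnderConj D) (h22 : Cfsg.IsOfTypeM22 G D)
include hD hprim h22

theorem chart_ker {d : G} (hd : d ∈ D) (C : Chart D d) : Nat.card ↥C.ρ.ker = 2 := by
  rw [C.ker, M22.center_eq hD hprim h22 hd, Nat.card_congr (Subgroup.subgroupOfEquivOfLe
    (Subgroup.zpowers_le.2 ?_)).toEquiv, Nat.card_zpowers, hD.1.1 d hd]
  rw [← M22.centralizer_eq hD hprim h22 hd]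
  exact fun x hx => by rw [Set.mem_singleton_iff.1 hx]

theorem exists_std {d : G} (hd : d ∈ D) (C : Chart D d) : ∃ X, IsStd C X := by
  have : Fact (Nat.Prime 5) := ⟨by norm_num⟩
  obtain ⟨X', hX', hmap⟩ := exists_lift C.ρ C.surj (p := 5)
    (Y := Subgroup.zpowers (y0 C.hF)) (by rw [chart_ker hD hprim h22 hd C]; decide)
    (by rw [Nat.card_zpowers, orderOf_y0])
  have e : (X'.map (Hd D d).subtype).subgroupOf (Hd D d) = X' :=
    Subgroup.comap_map_eq_self_of_injective (Hd D d).subtype_injective X'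
  exact ⟨X'.map (Hd D d).subtype, by rw [Subgroup.card_subtype, hX'],
    Subgroup.map_subtype_le X', by rw [e, hmap]⟩

variable {d : G} {C : Chart D d} {X : Subgroup G}

theorem std_gen (_hd : d ∈ D) (hX : IsStd C X) :
    ∃ h : ↥(Hd D d), (h : G) ∈ X ∧ C.ρ h = y0 C.hF ∧ h ^ 5 = 1 ∧
      X = Subgroup.zpowers (h : G) := by
  have : Fact (Nat.Prime 5) := ⟨by norm_num⟩
  obtain ⟨hc, hle, hmap⟩ := hX
  obtain ⟨h, hh, he⟩ : y0 C.hF ∈ (X.subgroupOf (Hd D d)).map C.ρ :=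
    hmap ▸ Subgroup.mem_zpowers _
  have h5 : (h : G) ^ 5 = 1 := by
    have := pow_card_eq_one' (x := (⟨h, hh⟩ : ↥X))
    rw [hc] at this
    exact congrArg Subtype.val this
  have hne : (h : G) ≠ 1 := by
    intro e
    have h1 := orderOf_y0 C.hF
    rw [← he, show h = 1 from Subtype.ext e, map_one, orderOf_one] at h1
    norm_num at h1
  have hz : Subgroup.zpowers (h : G) ≤ X := Subgroup.zpowers_le.2 hh
  refine ⟨h, hh, he, Subtype.ext h5, (Subgroup.eq_of_le_of_card_ge hz ?_).symm⟩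
  rw [Nat.card_zpowers, orderOf_eq_prime h5 hne, hc]

theorem std_le_centralizer (hd : d ∈ D) (hX : IsStd C X) :
    X ≤ Subgroup.centralizer ({d} : Set G) := by
  rw [M22.centralizer_eq hD hprim h22 hd]; exact hX.2.1

theorem fix_mem (hd : d ∈ D) (hX : IsStd C X) : d ∈ fixIn D X :=
  mem_fixIn_iff_le.2 ⟨hd, std_le_centralizer hD hprim h22 hd hX⟩

theorem fix_nb_iff (hd : d ∈ D) (hX : IsStd C X) {v : Fin 6 → C.F} (hv0 : v ≠ 0)
    (hv : Cfsg.hermForm 6 C.F 2 v v = 0) :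
    C.f v ∈ fixIn (nb D d) X ↔ mat (g0 C.hF) *ᵥ v = v := by
  obtain ⟨h, hh, he, h5, hgen⟩ := std_gen hD hprim h22 hd hX
  have e := C.f_conj hD (h := h) (g := g0 C.hF) he hv0 hv
  constructor
  · intro hf
    rw [mul_inv_eq_iff_eq_mul.2 (hf.2 _ hh)] at e
    obtain ⟨c, hc⟩ := (C.eq_iff v _ hv0 hv (mat_mulVec_ne_zero _ hv0) (by rw [SU_H, hv])).1 e
    have hp : ∀ k : ℕ, mat (g0 C.hF ^ k) *ᵥ v = c ^ k • v := by
      intro k
      induction k with
      | zero => rw [pow_zero, mat_one, Matrix.one_mulVec, pow_zero, one_smul]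
      | succ k ih =>
        rw [pow_succ', mul_mulVec, ih, Matrix.mulVec_smul, hc, smul_smul, ← pow_succ]
    have h1 := hp 5
    rw [show g0 C.hF ^ 5 = 1 from orderOf_g0 C.hF ▸ pow_orderOf_eq_one _, mat_one,
      Matrix.one_mulVec] at h1
    have hc5 : c ^ 5 = 1 :=
      smul_left_injective C.F hv0 (show c ^ 5 • v = (1 : C.F) • v by rw [one_smul]; exact h1.symm)
    rw [hc, eq_one_of_five_three C.hF hc5, one_smul]
  · intro hg
    rw [hg] at e
    have hcom : Commute (h : G) (C.f v) := mul_inv_eq_iff_eq_mul.1 e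
    refine ⟨C.mem v hv0 hv, fun x hx => ?_⟩
    rw [hgen] at hx
    obtain ⟨k, rfl⟩ := hx
    exact hcom.zpow_left k

/-- The fixed neighbours of the member: three, pairwise non-commuting. -/
theorem fix_nb (hd : d ∈ D) (hX : IsStd C X) :
    (fixIn (nb D d) X).ncard = 3 ∧
      (∀ x ∈ fixIn (nb D d) X, ∀ y ∈ fixIn (nb D d) X, x ≠ y → ¬ Commute x y) ∧
      ∀ x ∈ fixIn (nb D d) X, ∀ i, Commute (C.f (step i)) x := by
  classical
  have h2 := two_zero C.hF
  set v : C.Fˣ → Fin 6 → C.F := fun b => five + (b : C.F) • last with hv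
  have hv0 : ∀ b, v b ≠ 0 := fun b h =>
    one_ne_zero (α := C.F) (by simpa [hv, five, last] using congrFun h 0)
  have hH : ∀ a b : C.Fˣ, Cfsg.hermForm 6 C.F 2 (v a) (v b) = 1 + (a : C.F) * (b : C.F) ^ 2 := by
    intro a b
    rw [H_six C.hF]
    simp [hv, five, last]
    linear_combination 2 * h2
  have hiso : ∀ b, Cfsg.hermForm 6 C.F 2 (v b) (v b) = 0 := fun b => by
    rw [hH]
    linear_combination cube C.hF b.ne_zero + h2
  have hne : ∀ a b : C.Fˣ, a ≠ b → Cfsg.hermForm 6 C.F 2 (v a) (v b) ≠ 0 := fun a b hab e => by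
    rw [hH] at e
    refine hab (Units.ext ?_)
    linear_combination (b : C.F) * e - (a : C.F) * cube C.hF b.ne_zero - (b : C.F) * h2
  have hset : fixIn (nb D d) X = (fun b => C.f (v b)) '' Set.univ := by
    ext x
    constructor
    · intro hx
      obtain ⟨w, hw0, hw, rfl⟩ := C.cover x hx.1
      have hfx := (fix_nb_iff hD hprim h22 hd hX hw0 hw).1 hx
      have e := fixed_shape C.hF hfx
      have h1 := hw
      rw [e, H_fixed C.hF] at h1
      have ha : w 0 ≠ 0 := fun h0 => by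
        rw [h0, zero_pow (by norm_num), zero_add] at h1
        exact hw0 (by rw [e, h0, pow_eq_zero_iff (by norm_num) |>.1 h1, zero_smul, zero_smul, add_zero])
      have hb : w 5 ≠ 0 := fun h0 => by
        rw [h0, zero_pow (by norm_num), add_zero] at h1
        exact ha (pow_eq_zero_iff (by norm_num) |>.1 h1)
      refine ⟨Units.mk0 ((w 0)⁻¹ * w 5) (mul_ne_zero (inv_ne_zero ha) hb), Set.mem_univ _, ?_⟩
      refine ((C.eq_iff _ w (hv0 _) (hiso _) hw0 hw).2 ⟨w 0, ?_⟩)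
      rw [hv]
      simp only [Units.val_mk0, smul_add, smul_smul]
      rw [mul_inv_cancel_left₀ ha]
      exact e
    · rintro ⟨b, -, rfl⟩
      refine (fix_nb_iff hD hprim h22 hd hX (hv0 b) (hiso b)).2 ?_
      rw [hv]
      simp only [Matrix.mulVec_add, Matrix.mulVec_smul, (five_fixed C.hF).1, (five_fixed C.hF).2]
  have hinj : Function.Injective fun b => C.f (v b) := by
    intro a b h
    by_contra hab
    exact hne a b hab ((C.comm_iff _ _ (hv0 a) (hiso a) (hv0 b) (hiso b)).1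
      (show Commute (C.f (v a)) (C.f (v b)) by rw [show C.f (v a) = C.f (v b) from h]))
  refine ⟨?_, ?_, ?_⟩
  · rw [hset, Set.ncard_image_of_injective _ hinj, Set.ncard_univ, Nat.card_eq_fintype_card,
      Fintype.card_units, C.hF]
    norm_num
  · rw [hset]
    rintro _ ⟨a, -, rfl⟩ _ ⟨b, -, rfl⟩ hxy hc
    exact hne a b (fun e => hxy (by rw [e]))
      ((C.comm_iff _ _ (hv0 a) (hiso a) (hv0 b) (hiso b)).1 hc)
  · rw [hset]
    rintro _ ⟨a, -, rfl⟩ i
    exact (C.comm_iff _ _ (step_iso C.hF i).2 (step_iso C.hF i).1 (hv0 a) (hiso a)).2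
      ((H_eq_zero_comm C.hF).1 (step_fixed C.hF a i))

/-- The four transpositions commute with the fixed neighbours of the fixed neighbours. -/
theorem step_commute (hd : d ∈ D) (hX : IsStd C X) {x z : G} (hx : x ∈ fixIn (nb D d) X)
    (hz : z ∈ fixIn (nb D x) X) (hzd : ¬ Commute d z) (i : Fin 4) :
    Commute (C.f (step i)) z := by
  classical
  set a : Fin 4 → G := fun j => C.f (step j) with ha
  have han : ∀ j, a j ∈ nb D d := fun j => C.mem _ (step_iso C.hF j).2 (step_iso C.hF j).1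
  have hax : ∀ j, Commute (a j) x := fun j => (fix_nb hD hprim h22 hd hX).2.2 x hx j
  obtain ⟨g01, g12, g23, g02, g03, g13⟩ := step_gram C.hF
  have cm : ∀ j k : Fin 4, Commute (a j) (a k) ↔ Cfsg.hermForm 6 C.F 2 (step j) (step k) = 0 :=
    fun j k => C.comm_iff _ _ (step_iso C.hF j).2 (step_iso C.hF j).1 (step_iso C.hF k).2
      (step_iso C.hF k).1
  have br : ∀ j k : Fin 4, ¬ Commute (a j) (a k) → (a j * a k) ^ 3 = 1 := fun j k h =>
    Basic.cube_of_not_commute hD.1 (han j).1 (han k).1 h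
  obtain ⟨φ, hφ⟩ := SymFive.exists_hom a (fun j => Classes.sq hD (han j).1)
    (br 0 1 fun e => g01 ((cm 0 1).1 e)) (br 1 2 fun e => g12 ((cm 1 2).1 e))
    (br 2 3 fun e => g23 ((cm 2 3).1 e))
    ((cm 0 2).2 g02) ((cm 0 3).2 g03) ((cm 1 3).2 g13)
  have hP5 : (a 0 * a 1 * a 2 * a 3) ^ 5 = 1 := by
    rw [← hφ 0, ← hφ 1, ← hφ 2, ← hφ 3, ← map_mul, ← map_mul, ← map_mul, ← map_pow,
      show ((SymFive.adjSwap 0 * SymFive.adjSwap 1 * SymFive.adjSwap 2 * SymFive.adjSwap 3) ^ 5 :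
        Equiv.Perm (Fin 5)) = 1 by decide +kernel, map_one]
  set P : ↥(Hd D d) := ⟨a 0, mem_Hd (han 0)⟩ * ⟨a 1, mem_Hd (han 1)⟩ * ⟨a 2, mem_Hd (han 2)⟩ *
    ⟨a 3, mem_Hd (han 3)⟩ with hP
  obtain ⟨h, hh, hhρ, hh5, -⟩ := std_gen hD hprim h22 hd hX
  have hρP : C.ρ P = y0 C.hF := by
    rw [hP, map_mul, map_mul, map_mul, y0, g0_prod C.hF, map_mul, map_mul, map_mul]
    simp only [ha, C.img _ (step_iso C.hF _).2 (step_iso C.hF _).1]
  have hPh : P = h := eq_of_map_eq C.ρ (le_of_eq C.ker) (p := 5)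
    (by rw [chart_ker hD hprim h22 hd C]; decide) (Subtype.ext hP5) hh5 (hρP.trans hhρ.symm)
  have hPX : a 0 * a 1 * a 2 * a 3 ∈ X := by
    have : (P : G) ∈ X := hPh ▸ hh
    exact this
  -- now look from `x`
  obtain ⟨C'⟩ := exists_chart hD h22 hx.1.1
  have hanx : ∀ j, a j ∈ nb D x := fun j => ⟨(han j).1, fun e => by
    have hne : ∀ y ∈ fixIn (nb D d) X, y ≠ x → False := fun y hy hyx =>
      (fix_nb hD hprim h22 hd hX).2.1 y hy x hx hyx
        (e ▸ ((fix_nb hD hprim h22 hd hX).2.2 y hy j).symm)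
    obtain ⟨y, hy, hyx⟩ := Set.exists_ne_of_one_lt_ncard
      (s := fixIn (nb D d) X) (by rw [(fix_nb hD hprim h22 hd hX).1]; norm_num) x
    exact hne y hy hyx, (hax j).symm⟩
  choose u hu0 hu hfu using fun j => C'.cover (a j) (hanx j)
  obtain ⟨q, hq0, hq, hfq⟩ := C'.cover d (Cover.mem_nb_symm hd hx.1)
  obtain ⟨w, hw0, hw, hfw⟩ := C'.cover z hz.1
  have cm' : ∀ j k : Fin 4, Cfsg.hermForm 6 C'.F 2 (u j) (u k) = 0 ↔
      Cfsg.hermForm 6 C.F 2 (step j) (step k) = 0 := fun j k => by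
    rw [← cm, ← C'.comm_iff _ _ (hu0 j) (hu j) (hu0 k) (hu k), hfu, hfu]
  have hT : C'.ρ (⟨a 0, mem_Hd (hanx 0)⟩ * ⟨a 1, mem_Hd (hanx 1)⟩ * ⟨a 2, mem_Hd (hanx 2)⟩ *
      ⟨a 3, mem_Hd (hanx 3)⟩) = QuotientGroup.mk' _
        (tr C'.hF (hu 0) * tr C'.hF (hu 1) * tr C'.hF (hu 2) * tr C'.hF (hu 3)) := by
    have he : ∀ j, C'.ρ ⟨a j, mem_Hd (hanx j)⟩ = QuotientGroup.mk' _ (tr C'.hF (hu j)) := fun j => by
      rw [← C'.img (u j) (hu0 j) (hu j)]
      exact congrArg C'.ρ (Subtype.ext (hfu j).symm)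
    rw [map_mul, map_mul, map_mul, he, he, he, he, map_mul, map_mul, map_mul]
  have e := C'.f_conj hD hT hw0 hw
  simp only [Subgroup.coe_mul] at e
  rw [hfw, mul_inv_eq_iff_eq_mul.2 (hz.2 _ hPX)] at e
  obtain ⟨c, hc⟩ := (C'.eq_iff w _ hw0 hw (mat_mulVec_ne_zero _ hw0) (by rw [SU_H, hw])).1
    (hfw.trans e)
  have hqu : ∀ j, Cfsg.hermForm 6 C'.F 2 (u j) q = 0 := fun j =>
    (C'.comm_iff _ _ (hu0 j) (hu j) hq0 hq).1 (by rw [hfu, hfq]; exact (han j).2.2.symm)
  have hwq : Cfsg.hermForm 6 C'.F 2 w q ≠ 0 := fun h0 => hzd (by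
    have := (C'.comm_iff _ _ hw0 hw hq0 hq).2 h0
    rw [hfw, hfq] at this
    exact this.symm)
  have hfin := chain_fixed C'.hF hu (fun h0 => g01 ((cm' 0 1).1 h0))
    (fun h0 => g23 ((cm' 2 3).1 h0)) ((cm' 0 2).2 g02) ((cm' 0 3).2 g03) ((cm' 1 3).2 g13) hqu hwq
    hc i
  have := (C'.comm_iff _ _ hw0 hw (hu0 i) (hu i)).2 hfin
  rw [hfw, hfu] at this
  exact this.symm

end Cfsg.Agent.ThreeTransp.M22Prime.Five
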