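import Cfsg.Agent.Lib.ThreeTransp.M22Prime.Local
import Cfsg.Agent.Lib.ThreeTransp.UnitaryClass

/-!
A five-cycle of coordinates in the six-dimensional unitary group over the field with four elements:
a bound on its centraliser and a normalising element.
-/

set_option autoImplicit false
set_option linter.unusedSectionVars false

namespace Cfsg.Agent.ThreeTransp.M22Prime.Five

open Matrix Cfsg.Agent.Classical.Unitary
open Cfsg.Agent.GroupStructure3.ThreeTransUnitary
open Cfsg.Agent.ThreeTransp.M22Prime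

/-- The cycle of the first five coordinates. -/
def cyc : Equiv.Perm (Fin 6) :=
  Equiv.swap 0 1 * Equiv.swap 1 2 * Equiv.swap 2 3 * Equiv.swap 3 4

/-- Doubling the first five coordinates. -/
def dbl : Equiv.Perm (Fin 6) := Equiv.swap 1 2 * Equiv.swap 2 4 * Equiv.swap 4 3

theorem cyc_facts : cyc ^ 5 = 1 ∧ cyc ≠ 1 ∧ dbl * cyc * dbl⁻¹ = cyc ^ 2 ∧ cyc ^ 4 ≠ cyc := by
  decide +kernel

theorem cyc_inv_vals : cyc.symm 0 = 4 ∧ cyc.symm 1 = 0 ∧ cyc.symm 2 = 1 ∧ cyc.symm 3 = 2 ∧
    cyc.symm 4 = 3 ∧ cyc.symm 5 = 5 := by decide +kernel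

variable {F : Type*} [Field F] [Fintype F] (hF : Fintype.card F = 2 ^ 2)

local notation "Vec" => (Fin 6 → F)
local notation "H" => Cfsg.hermForm 6 F 2

/-- The all-one vector of the five cycled coordinates. -/
def five : Vec := ![1, 1, 1, 1, 1, 0]

/-- The remaining coordinate. -/
def last : Vec := ![0, 0, 0, 0, 0, 1]

/-- The five-cycle as a unitary element. -/
noncomputable def g0 : Cfsg.SU 6 F 2 := UnitaryClass.perm hF cyc

include hF

theorem perm_mulVec (σ : Equiv.Perm (Fin 6)) (x : Vec) :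
    mat (UnitaryClass.perm hF σ) *ᵥ x = x ∘ ⇑(σ⁻¹ : Equiv.Perm (Fin 6)) := by
  show (σ⁻¹ : Equiv.Perm (Fin 6)).permMatrix F *ᵥ x = _
  exact Matrix.permMatrix_mulVec _

theorem g0_mulVec (x : Vec) : mat (g0 hF) *ᵥ x = ![x 4, x 0, x 1, x 2, x 3, x 5] := by
  obtain ⟨a, b, c, d, e, f⟩ := cyc_inv_vals
  rw [g0, perm_mulVec hF]
  funext i
  fin_cases i <;> simp [a, b, c, d, e, f]

theorem orderOf_g0 : orderOf (g0 hF) = 5 := by
  have : Fact (Nat.Prime 5) := ⟨by norm_num⟩
  rw [g0, orderOf_injective _ (UnitaryClass.perm_injective hF)]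
  exact orderOf_eq_prime cyc_facts.1 cyc_facts.2.1

theorem H_six (x y : Vec) : H x y = x 0 * y 0 ^ 2 + x 1 * y 1 ^ 2 + x 2 * y 2 ^ 2 + x 3 * y 3 ^ 2 +
    x 4 * y 4 ^ 2 + x 5 * y 5 ^ 2 := by
  rw [H_eq_dot, dotProduct, Fin.sum_univ_six]

theorem H_five (x : Vec) : H x five = x 0 + x 1 + x 2 + x 3 + x 4 := by
  rw [H_six hF]; simp [five]

theorem H_last (x : Vec) : H x last = x 5 := by
  rw [H_six hF]; simp [last]

theorem fixed_shape {x : Vec} (hx : mat (g0 hF) *ᵥ x = x) : x = x 0 • five + x 5 • last := by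
  rw [g0_mulVec hF] at hx
  have h1 := congrFun hx 1
  have h2 := congrFun hx 2
  have h3 := congrFun hx 3
  have h4 := congrFun hx 4
  simp at h1 h2 h3 h4
  funext i
  fin_cases i <;> simp [five, last]
  · exact h1.symm
  · exact (h1.trans h2).symm
  · exact ((h1.trans h2).trans h3).symm
  · exact (((h1.trans h2).trans h3).trans h4).symm

theorem H_fixed (a b : F) : H (a • five + b • last) (a • five + b • last) = a ^ 3 + b ^ 3 := by
  rw [H_six hF]
  simp [five, last]
  linear_combination (2 * a ^ 3) * two_zero hF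

theorem five_fixed : mat (g0 hF) *ᵥ (five : Vec) = five ∧ mat (g0 hF) *ᵥ (last : Vec) = last := by
  constructor <;> (rw [g0_mulVec hF]; funext i; fin_cases i <;> simp [five, last])

/-- A point of the fixed plane of norm one lies on one of the two axes. -/
theorem axis {x : Vec} (hx : mat (g0 hF) *ᵥ x = x) (h1 : H x x = 1) :
    (∃ a : Fˣ, x = (a : F) • five) ∨ (∃ a : Fˣ, x = (a : F) • last) := by
  have e := fixed_shape hF hx
  rw [e, H_fixed hF] at h1
  by_cases h0 : x 0 = 0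
  · by_cases h5 : x 5 = 0
    · rw [h0, h5] at h1; norm_num at h1
    · exact Or.inr ⟨Units.mk0 _ h5, by rw [Units.val_mk0]; conv_lhs => rw [e, h0, zero_smul, zero_add]⟩
  · by_cases h5 : x 5 = 0
    · exact Or.inl ⟨Units.mk0 _ h0, by rw [Units.val_mk0]; conv_lhs => rw [e, h5, zero_smul, add_zero]⟩
    · rw [cube hF h0, cube hF h5] at h1
      exact absurd (show (1 : F) = 0 by linear_combination h1) one_ne_zero

/-- The moved vector of which the others are combinations of translates. -/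
def pair : Vec := ![1, 1, 0, 0, 0, 0]

/-- A quadratic in the cycle. -/
noncomputable def quad (a : F) (x : Vec) : Vec :=
  mat (g0 hF) *ᵥ (mat (g0 hF) *ᵥ x) + a • (mat (g0 hF) *ᵥ x) + x

theorem quad_apply (a : F) (x : Vec) : quad hF a x =
    ![x 3 + a * x 4 + x 0, x 4 + a * x 0 + x 1, x 0 + a * x 1 + x 2, x 1 + a * x 2 + x 3,
      x 2 + a * x 3 + x 4, x 5 + a * x 5 + x 5] := by
  rw [quad, g0_mulVec hF x, g0_mulVec hF]
  funext i
  fin_cases i <;> simp

theorem quad_moved {ω : F} (hω : ω ^ 2 + ω + 1 = 0) {x : Vec} (h1 : H x five = 0)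
    (h5 : H x last = 0) :
    ∃ p : F × F, quad hF (ω ^ 2) x =
      p.1 • quad hF (ω ^ 2) pair + p.2 • (mat (g0 hF) *ᵥ quad hF (ω ^ 2) pair) := by
  rw [H_five hF] at h1
  rw [H_last hF] at h5
  have h2 := two_zero hF
  refine ⟨(x 0 + (x 0 + x 1 + x 2) + ω * x 4, x 0 + x 1 + ω * (x 0 + x 1 + x 2) + ω * x 4), ?_⟩
  rw [quad_apply hF, quad_apply hF, g0_mulVec hF]
  funext i
  fin_cases i <;> simp [pair] <;> grind

theorem quad_centralizer {c : Cfsg.SU 6 F 2} (hc : Commute c (g0 hF)) (a : F) (x : Vec) :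
    mat c *ᵥ quad hF a x = quad hF a (mat c *ᵥ x) := by
  have hcom : ∀ y : Vec, mat c *ᵥ (mat (g0 hF) *ᵥ y) = mat (g0 hF) *ᵥ (mat c *ᵥ y) := fun y => by
    rw [← mul_mulVec, ← mul_mulVec, hc.eq]
  simp only [quad, Matrix.mulVec_add, Matrix.mulVec_smul, hcom]

/-- An element commuting with the cycle that fixes the fixed plane and one more vector is
trivial. -/
theorem trivial_of_fixed {ω : F} (hω : ω ^ 2 + ω + 1 = 0) {c : Cfsg.SU 6 F 2}
    (hc : Commute c (g0 hF)) (h5 : mat c *ᵥ (five : Vec) = five)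
    (hl : mat c *ᵥ (last : Vec) = last)
    (he : mat c *ᵥ quad hF (ω ^ 2) pair = quad hF (ω ^ 2) pair) : c = 1 := by
  have hcom : ∀ y : Vec, mat c *ᵥ (mat (g0 hF) *ᵥ y) = mat (g0 hF) *ᵥ (mat c *ᵥ y) := fun y => by
    rw [← mul_mulVec, ← mul_mulVec, hc.eq]
  have hfix : ∀ y : Vec, mat c *ᵥ quad hF (ω ^ 2) y = quad hF (ω ^ 2) y := by
    intro y
    set s := H y five with hs
    set t := H y last with ht
    have hff : H (five : Vec) five = 1 := by
      rw [H_five hF]; simp [five]; linear_combination 2 * two_zero hF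
    have hlf : H (last : Vec) five = 0 := by rw [H_five hF]; simp [last]
    have hfl : H (five : Vec) last = 0 := by rw [H_last hF]; simp [five]
    have hll : H (last : Vec) last = 1 := by rw [H_last hF]; simp [last]
    obtain ⟨p, hp⟩ := quad_moved hF hω (x := y - s • five - t • last)
      (by simp only [H_sub_left, H_smul_left, hff, hlf, ← hs]; ring)
      (by simp only [H_sub_left, H_smul_left, hfl, hll, ← ht]; ring)
    have e : quad hF (ω ^ 2) y = quad hF (ω ^ 2) (y - s • five - t • last) +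
        s • quad hF (ω ^ 2) five + t • quad hF (ω ^ 2) last := by
      simp only [quad, Matrix.mulVec_sub, Matrix.mulVec_smul]
      module
    have hq : ∀ v : Vec, mat c *ᵥ v = v → mat c *ᵥ quad hF (ω ^ 2) v = quad hF (ω ^ 2) v :=
      fun v hv => by rw [quad_centralizer hF hc, hv]
    rw [e, hp]
    simp only [Matrix.mulVec_add, Matrix.mulVec_smul, hcom, he, hq five h5, hq last hl]
  refine SU_ext fun x => ?_
  rw [mat_one, Matrix.one_mulVec, ← sub_eq_zero]
  set z := mat c *ᵥ x - x with hz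
  have h1 : quad hF (ω ^ 2) z = 0 := by
    rw [hz, show quad hF (ω ^ 2) (mat c *ᵥ x - x) =
      quad hF (ω ^ 2) (mat c *ᵥ x) - quad hF (ω ^ 2) x by
        simp only [quad, Matrix.mulVec_sub]; module, ← quad_centralizer hF hc, hfix, sub_self]
  have horth : ∀ y : Vec, H z (quad hF (ω ^ 2) y) = 0 := fun y => by
    rw [hz, H_sub_left]
    conv_lhs => arg 1; rw [← hfix y, SU_H]
    rw [sub_self]
  have h2 : quad hF ω z = 0 := by
    refine eq_zero_of_H hF fun v => ?_
    obtain ⟨y, rfl⟩ : ∃ y, v = mat (g0 hF) *ᵥ (mat (g0 hF) *ᵥ y) :=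
      ⟨mat (g0 hF)⁻¹ *ᵥ (mat (g0 hF)⁻¹ *ᵥ v), by
        rw [← mul_mulVec, ← mul_mulVec, ← mul_mulVec,
          show g0 hF * g0 hF * (g0 hF)⁻¹ * (g0 hF)⁻¹ = 1 by group, mat_one, Matrix.one_mulVec]⟩
    have h := horth y
    simp only [quad, H_add_right hF, H_smul_right] at h
    simp only [quad, H_add_left, H_smul_left, SU_H]
    linear_combination h - ω * (ω - 1) * H z (mat (g0 hF) *ᵥ y) * hω
  have h3 : mat (g0 hF) *ᵥ z = 0 := by
    have e : quad hF (ω ^ 2) z + quad hF ω z = mat (g0 hF) *ᵥ z := by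
      simp only [quad]
      have h2' := two_zero hF
      match_scalars
      all_goals first
        | linear_combination h2'
        | linear_combination -h2'
        | linear_combination hω - h2'

    rw [← e, h1, h2, add_zero]
  have h4 := inv_mulVec (g0 hF) h3
  rw [Matrix.mulVec_zero] at h4
  exact h4.symm

theorem card_centralizer_le :
    Nat.card ↥(Subgroup.centralizer ({g0 hF} : Set (Cfsg.SU 6 F 2))) ≤ 288 := by
  classical
  obtain ⟨ω, -, hω, -⟩ := UnitaryPoints.exists_omega hF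
  have hω' : ω ^ 2 + ω + 1 = 0 := by linear_combination hω
  set K := Subgroup.centralizer ({g0 hF} : Set (Cfsg.SU 6 F 2)) with hK
  have hcom : ∀ c : ↥K, Commute (c : Cfsg.SU 6 F 2) (g0 hF) := fun c =>
    (Subgroup.mem_centralizer_iff.1 c.2 _ rfl).symm
  have hfixed : ∀ (c : ↥K) (v : Vec), mat (g0 hF) *ᵥ v = v →
      mat (g0 hF) *ᵥ (mat (c : Cfsg.SU 6 F 2) *ᵥ v) = mat (c : Cfsg.SU 6 F 2) *ᵥ v :=
    fun c v hv => by rw [← mul_mulVec, ← (hcom c).eq, mul_mulVec, hv]
  have hff : H (five : Vec) five = 1 := by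
    rw [H_five hF]; simp [five]; linear_combination 2 * two_zero hF
  have hll : H (last : Vec) last = 1 := by rw [H_last hF]; simp [last]
  have hfl : H (five : Vec) last = 0 := by rw [H_last hF]; simp [five]
  set e := quad hF (ω ^ 2) pair with he
  set S : Finset (Vec × Vec × Vec) := (Finset.univ : Finset ((Bool × Fˣ × Fˣ) × F × F)).image
    (fun t => (if t.1.1 then (t.1.2.1 : F) • five else (t.1.2.1 : F) • last,
      if t.1.1 then (t.1.2.2 : F) • last else (t.1.2.2 : F) • five,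
      t.2.1 • e + t.2.2 • (mat (g0 hF) *ᵥ e))) with hS
  have hmem : ∀ c : ↥K, (mat (c : Cfsg.SU 6 F 2) *ᵥ (five : Vec),
      mat (c : Cfsg.SU 6 F 2) *ᵥ (last : Vec), mat (c : Cfsg.SU 6 F 2) *ᵥ e) ∈ S := by
    intro c
    have hperp : ∀ v : Vec, mat (g0 hF) *ᵥ v = v →
        H (mat (c : Cfsg.SU 6 F 2) *ᵥ pair) v = 0 := by
      intro v hv
      have hv' := fixed_shape hF (hfixed (c⁻¹) v hv)
      rw [← SU_H ((c⁻¹ : ↥K) : Cfsg.SU 6 F 2), ← mul_mulVec, ← Subgroup.coe_mul, inv_mul_cancel,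
        Subgroup.coe_one, mat_one, Matrix.one_mulVec, hv', H_add_right hF, H_smul_right,
        H_smul_right, H_five hF, H_last hF]
      simp [pair]
      exact Or.inr (by linear_combination two_zero hF)
    obtain ⟨p, hp⟩ := quad_moved hF hω' (hperp _ (five_fixed hF).1) (hperp _ (five_fixed hF).2)
    rw [← quad_centralizer hF (hcom c), ← he] at hp
    have h1 := axis hF (hfixed c _ (five_fixed hF).1) (by rw [SU_H, hff])
    have h2 := axis hF (hfixed c _ (five_fixed hF).2) (by rw [SU_H, hll])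
    have h3 : H (mat (c : Cfsg.SU 6 F 2) *ᵥ (five : Vec)) (mat (c : Cfsg.SU 6 F 2) *ᵥ last) = 0 := by
      rw [SU_H, hfl]
    rw [hS, Finset.mem_image]
    rcases h1 with ⟨a, ha⟩ | ⟨a, ha⟩ <;> rcases h2 with ⟨b, hb⟩ | ⟨b, hb⟩
    · rw [ha, hb, H_smul_left, H_smul_right, hff] at h3
      simp at h3
    · exact ⟨((true, a, b), p), Finset.mem_univ _, by simp [ha, hb, hp]⟩
    · exact ⟨((false, a, b), p), Finset.mem_univ _, by simp [ha, hb, hp]⟩
    · rw [ha, hb, H_smul_left, H_smul_right, hll] at h3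
      simp at h3
  have hinj : Function.Injective (fun c : ↥K => (⟨_, hmem c⟩ : ↥S)) := by
    intro c d hcd
    have h := congrArg Subtype.val hcd
    simp only [Prod.mk.injEq] at h
    obtain ⟨h1, h2, h3⟩ := h
    have key : ∀ v : Vec, mat (c : Cfsg.SU 6 F 2) *ᵥ v = mat (d : Cfsg.SU 6 F 2) *ᵥ v →
        mat ((d⁻¹ * c : ↥K) : Cfsg.SU 6 F 2) *ᵥ v = v := fun v hv => by
      rw [Subgroup.coe_mul, mul_mulVec, hv, InvMemClass.coe_inv]
      exact inv_mulVec _ rfl
    have := trivial_of_fixed hF hω' (hcom (d⁻¹ * c)) (key _ h1) (key _ h2) (key _ h3)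
    exact (inv_mul_eq_one.1 (Subtype.ext this)).symm
  refine (Nat.card_le_card_of_injective _ hinj).trans ?_
  rw [Nat.card_eq_fintype_card, Fintype.card_coe]
  refine Finset.card_image_le.trans ?_
  rw [Finset.card_univ, Fintype.card_prod, Fintype.card_prod, Fintype.card_prod, Fintype.card_prod,
    Fintype.card_units, hF, Fintype.card_bool]
  norm_num

/-- The image of the five-cycle. -/
noncomputable def y0 : Cfsg.PSU 6 F 2 :=
  QuotientGroup.mk' (Subgroup.center (Cfsg.SU 6 F 2)) (g0 hF)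

theorem orderOf_y0 : orderOf (y0 hF) = 5 := by
  have : Fact (Nat.Prime 5) := ⟨by norm_num⟩
  refine orderOf_eq_prime ?_ fun h => ?_
  · rw [y0, ← map_pow, ← orderOf_g0 hF, pow_orderOf_eq_one, map_one]
  · rw [y0, QuotientGroup.mk'_apply, QuotientGroup.eq_one_iff] at h
    have h1 := Subgroup.orderOf_dvd_natCard _ h
    rw [natCard_center hF (by norm_num), orderOf_g0 hF] at h1
    norm_num at h1

/-- The centraliser's size and the normaliser's. -/
theorem psu_five :
    Nat.card ↥(Subgroup.centralizer ((Subgroup.zpowers (y0 hF) : Subgroup _) :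
        Set (Cfsg.PSU 6 F 2))) ≤ 96 ∧
    Nat.card ↥(Subgroup.normalizer ((Subgroup.zpowers (y0 hF) : Subgroup _) :
        Set (Cfsg.PSU 6 F 2))) =
      4 * Nat.card ↥(Subgroup.centralizer ((Subgroup.zpowers (y0 hF) : Subgroup _) :
        Set (Cfsg.PSU 6 F 2))) := by
  have : Fact (Nat.Prime 5) := ⟨by norm_num⟩
  set f : Cfsg.SU 6 F 2 →* Cfsg.PSU 6 F 2 :=
    QuotientGroup.mk' (Subgroup.center (Cfsg.SU 6 F 2)) with hf
  have hker : f.ker = Subgroup.center (Cfsg.SU 6 F 2) := QuotientGroup.ker_mk' _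
  have hk : Nat.card ↥f.ker = 3 := by rw [hker, natCard_center hF (by norm_num)]; decide
  have hco : (Nat.card ↥f.ker).Coprime 5 := by rw [hk]; norm_num
  have hY : Nat.card ↥(Subgroup.zpowers (y0 hF)) = 5 := by rw [Nat.card_zpowers, orderOf_y0]
  constructor
  · have hX : Nat.card ↥(Subgroup.zpowers (g0 hF)) = 5 := by rw [Nat.card_zpowers, orderOf_g0]
    have h := (card_lift f (QuotientGroup.mk'_surjective _) (le_of_eq hker) hco hX).2
    rw [MonoidHom.map_zpowers, show f (g0 hF) = y0 hF from rfl, hk, centralizer_zpowers] at h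
    have := card_centralizer_le hF
    omega
  obtain ⟨e, he, hN⟩ := card_normalizer hY
  rw [hN, mul_comm]
  congr 1
  have hpow : dbl * cyc * dbl⁻¹ = cyc ^ 2 := cyc_facts.2.2.1
  set h0 : Cfsg.PSU 6 F 2 := f (UnitaryClass.perm hF dbl) with hh0
  have hrel : h0 * y0 hF * h0⁻¹ = y0 hF ^ 2 := by
    rw [hh0, show y0 hF = f (UnitaryClass.perm hF cyc) from rfl, ← map_inv, ← map_inv, ← map_mul,
      ← map_mul, ← map_mul, ← map_mul, hpow, map_pow, map_pow]
  set Y := Subgroup.zpowers (y0 hF) with hYd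
  have hmem : h0 ∈ Subgroup.normalizer (Y : Set (Cfsg.PSU 6 F 2)) := by
    rw [mem_normalizer_iff_map, hYd, MonoidHom.map_zpowers,
      show (MulAut.conj h0).toMonoidHom (y0 hF) = y0 hF ^ 2 from hrel]
    refine Subgroup.eq_of_le_of_card_ge (Subgroup.zpowers_le.2
      (pow_mem (Subgroup.mem_zpowers _) 2)) ?_
    rw [Nat.card_zpowers, Nat.card_zpowers, Nat.Coprime.orderOf_pow (by rw [orderOf_y0]; decide)]
  rcases (show e = 1 ∨ e = 2 ∨ e = 4 by
    have := Nat.le_of_dvd (by norm_num) he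
    interval_cases e <;> revert he <;> decide) with rfl | rfl | rfl
  all_goals first | rfl | skip
  all_goals exfalso
  all_goals
    have hi : ((Subgroup.centralizer (Y : Set (Cfsg.PSU 6 F 2))).subgroupOf
        (Subgroup.normalizer (Y : Set (Cfsg.PSU 6 F 2)))).index ∣ 2 := by
      have h := ((Subgroup.centralizer (Y : Set (Cfsg.PSU 6 F 2))).subgroupOf
        (Subgroup.normalizer (Y : Set (Cfsg.PSU 6 F 2)))).index_mul_card
      rw [Nat.card_congr (Subgroup.subgroupOfEquivOfLe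
        (Subgroup.centralizer_le_normalizer (Y : Set (Cfsg.PSU 6 F 2)))).toEquiv, hN,
        mul_comm] at h
      rw [Nat.eq_of_mul_eq_mul_left Nat.card_pos h]
      all_goals decide
    obtain ⟨k, hk2⟩ := hi
    have : ((Subgroup.centralizer (Y : Set (Cfsg.PSU 6 F 2))).subgroupOf
        (Subgroup.normalizer (Y : Set (Cfsg.PSU 6 F 2)))).Normal := by
      rw [← Subgroup.normalizerMonoidHom_ker Y]; infer_instance
    have hsq : (⟨h0, hmem⟩ : ↥(Subgroup.normalizer (Y : Set (Cfsg.PSU 6 F 2)))) ^ 2 ∈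
        (Subgroup.centralizer (Y : Set (Cfsg.PSU 6 F 2))).subgroupOf
          (Subgroup.normalizer (Y : Set (Cfsg.PSU 6 F 2))) := by
      have hpk : ∀ (n : ↥(Subgroup.normalizer (Y : Set (Cfsg.PSU 6 F 2)))) (i : ℕ), 2 = i * k →
          n ^ 2 = (n ^ i) ^ k := fun n i hi => by rw [← pow_mul, ← hi]
      rw [hpk _ _ hk2]
      exact pow_mem (Subgroup.pow_index_mem _ _) k
    have hc := Subgroup.mem_centralizer_iff.1 (Subgroup.mem_subgroupOf.1 hsq) _
      (Subgroup.mem_zpowers (y0 hF))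
    simp only [SubmonoidClass.coe_pow] at hc
    have h4 : y0 hF ^ 4 = y0 hF := by
      calc y0 hF ^ 4 = (y0 hF ^ 2) ^ 2 := by rw [← pow_mul]
        _ = (h0 * y0 hF * h0⁻¹) ^ 2 := by rw [hrel]
        _ = h0 * y0 hF ^ 2 * h0⁻¹ := conj_pow
        _ = h0 ^ 2 * y0 hF * (h0 ^ 2)⁻¹ := by rw [← hrel]; simp [pow_two, mul_assoc]
        _ = y0 hF := by rw [← hc, mul_inv_cancel_right]
    have h3 : y0 hF ^ 3 = 1 := by
      rw [pow_succ] at h4
      exact mul_right_cancel (h4.trans (one_mul _).symm)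
    have := orderOf_dvd_of_pow_eq_one h3
    rw [orderOf_y0 hF] at this
    norm_num at this

end Cfsg.Agent.ThreeTransp.M22Prime.Five
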