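import Mathlib

/-!
Subgroups of prime order: their conjugacy, normalisers, centralisers and fixed points, and their
lifting along a surjection with small central kernel.
-/

set_option autoImplicit false
set_option linter.unusedSectionVars false

namespace Cfsg.Agent.ThreeTransp.M22Prime

open Subgroup

variable {G : Type*} [Group G]

/-- The members of a set centralised by a subgroup. -/
def fixIn (S : Set G) (X : Subgroup G) : Set G :=
  S ∩ (Subgroup.centralizer (X : Set G) : Set G)

theorem mem_fixIn {S : Set G} {X : Subgroup G} {y : G} :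
    y ∈ fixIn S X ↔ y ∈ S ∧ ∀ x ∈ X, Commute x y := Iff.rfl

/-- A p-group acting by conjugation fixes as many points as there are, modulo p. -/
theorem modEq_fixIn [Finite G] {p : ℕ} [Fact p.Prime] {X : Subgroup G} (hX : IsPGroup p ↥X)
    {S : Set G} (hS : ∀ x ∈ X, ∀ s ∈ S, x * s * x⁻¹ ∈ S) :
    S.ncard ≡ (fixIn S X).ncard [MOD p] := by
  let act : MulAction ↥X ↥S :=
    { smul := fun x s => ⟨(x : G) * s * (x : G)⁻¹, hS x x.2 s s.2⟩
      one_smul := fun s => Subtype.ext (show (1 : G) * s * (1 : G)⁻¹ = s by group)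
      mul_smul := fun x y s => Subtype.ext (show ((x : G) * y) * s * ((x : G) * y)⁻¹ =
        (x : G) * ((y : G) * s * (y : G)⁻¹) * (x : G)⁻¹ by group) }
  have h := hX.card_modEq_card_fixedPoints ↥S
  rw [Nat.card_coe_set_eq] at h
  refine h.trans ?_
  suffices e : Nat.card (MulAction.fixedPoints ↥X ↥S) = (fixIn S X).ncard by rw [e]
  rw [← Nat.card_coe_set_eq]
  refine Nat.card_congr
    { toFun := fun s => ⟨s.1.1, s.1.2, fun x hx => ?_⟩
      invFun := fun s => ⟨⟨s.1, s.2.1⟩, fun x => Subtype.ext ?_⟩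
      left_inv := fun s => rfl
      right_inv := fun s => rfl }
  · exact mul_inv_eq_iff_eq_mul.1 (congrArg Subtype.val (s.2 ⟨x, hx⟩))
  · exact mul_inv_eq_iff_eq_mul.2 (s.2.2 x x.2)

/-- The fixed set of a conjugate. -/
theorem conj_mem_fixIn {S : Set G} {X : Subgroup G} {g y : G}
    (hS : ∀ s ∈ S, g * s * g⁻¹ ∈ S) (hy : y ∈ fixIn S X) :
    g * y * g⁻¹ ∈ fixIn S (X.map (MulAut.conj g).toMonoidHom) := by
  refine ⟨hS y hy.1, ?_⟩
  rintro _ ⟨x, hx, rfl⟩
  exact Commute.eq ((Commute.conj_iff g).2 (hy.2 x hx))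

theorem mem_normalizer_iff_map {X : Subgroup G} {g : G} :
    g ∈ normalizer (X : Set G) ↔ X.map (MulAut.conj g).toMonoidHom = X := by
  rw [Subgroup.mem_normalizer_iff]
  constructor
  · intro h
    ext y
    constructor
    · rintro ⟨x, hx, rfl⟩; exact (h x).1 hx
    · intro hy
      refine ⟨g⁻¹ * y * g, (h _).2 (by rwa [show g * (g⁻¹ * y * g) * g⁻¹ = y by group]), ?_⟩
      simp [mul_assoc]
  · intro h x
    constructor
    · intro hx; rw [← h]; exact ⟨x, hx, rfl⟩
    · intro hx
      rw [← h] at hx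
      obtain ⟨y, hy, e⟩ := hx
      exact mul_left_cancel (mul_right_cancel e) ▸ hy

/-- The normaliser permutes the fixed points. -/
theorem fixIn_normalizer {S : Set G} {X : Subgroup G} {g y : G}
    (hS : ∀ g : G, ∀ s ∈ S, g * s * g⁻¹ ∈ S) (hg : g ∈ normalizer (X : Set G))
    (hy : y ∈ fixIn S X) : g * y * g⁻¹ ∈ fixIn S X := by
  have := conj_mem_fixIn (fun s hs => hS g s hs) hy
  rwa [mem_normalizer_iff_map.1 hg] at this

theorem exists_generator [Finite G] {p : ℕ} [Fact p.Prime] {X : Subgroup G}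
    (hX : Nat.card ↥X = p) :
    ∃ x ∈ X, orderOf x = p ∧ X = zpowers x := by
  obtain ⟨⟨x, hx⟩, hne⟩ := exists_prime_orderOf_dvd_card' (G := ↥X) p hX.symm.dvd
  rw [Subgroup.orderOf_mk] at hne
  refine ⟨x, hx, hne, (Subgroup.eq_of_le_of_card_ge (zpowers_le.2 hx) ?_).symm⟩
  rw [Nat.card_zpowers, hne, hX]

theorem centralizer_zpowers (x : G) :
    centralizer ((zpowers x : Subgroup G) : Set G) = centralizer ({x} : Set G) := by
  ext y
  rw [mem_centralizer_iff, mem_centralizer_iff]
  constructor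
  · intro h z hz
    rw [Set.mem_singleton_iff.1 hz]
    exact h x (mem_zpowers x)
  · intro h z hz
    obtain ⟨k, rfl⟩ := hz
    exact (Commute.zpow_left (h x rfl) k).eq

theorem self_le_centralizer [Finite G] {p : ℕ} [Fact p.Prime] {X : Subgroup G}
    (hX : Nat.card ↥X = p) : X ≤ centralizer (X : Set G) := by
  obtain ⟨x, -, -, rfl⟩ := exists_generator hX
  rw [centralizer_zpowers, zpowers_le, mem_centralizer_iff]
  intro z hz
  rw [Set.mem_singleton_iff.1 hz]

/-- The normaliser of a subgroup of prime order acts on it through a group of order dividing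
`p - 1`. -/
theorem card_normalizer [Finite G] {p : ℕ} [Fact p.Prime] {X : Subgroup G}
    (hX : Nat.card ↥X = p) :
    ∃ e, e ∣ p - 1 ∧
      Nat.card ↥(normalizer (X : Set G)) = Nat.card ↥(centralizer (X : Set G)) * e := by
  have : IsCyclic ↥X := isCyclic_of_prime_card hX
  set f := X.normalizerMonoidHom with hf
  refine ⟨Nat.card f.range, ?_, ?_⟩
  · refine (Subgroup.card_subgroup_dvd_card _).trans ?_
    rw [IsCyclic.card_mulAut, hX, Nat.totient_prime Fact.out]
  · rw [← Nat.card_congr (Subgroup.subgroupOfEquivOfLe (centralizer_le_normalizer (X : Set G))).toEquiv,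
      ← Subgroup.normalizerMonoidHom_ker X, ← hf,
      Subgroup.card_eq_card_quotient_mul_card_subgroup f.ker, mul_comm,
      Nat.card_congr (QuotientGroup.quotientKerEquivRange f).toEquiv]

/-- A subgroup of order `p`, `p` dividing the group's order once, is a Sylow subgroup. -/
theorem exists_sylow [Finite G] {p m : ℕ} [Fact p.Prime] {X : Subgroup G}
    (hG : Nat.card G = p * m) (hm : ¬ p ∣ m) (hX : Nat.card ↥X = p) :
    ∃ P : Sylow p G, (P : Subgroup G) = X := by
  obtain ⟨P, hP⟩ := (IsPGroup.of_card (n := 1) (by rw [hX, pow_one])).exists_le_sylow (G := G)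
  refine ⟨P, (Subgroup.eq_of_le_of_card_ge hP ?_).symm⟩
  rw [P.card_eq_multiplicity, hX, hG]
  have hp : p.Prime := Fact.out
  have hm0 : m ≠ 0 := fun h => hm (h ▸ dvd_zero p)
  rw [Nat.factorization_mul hp.ne_zero hm0, Finsupp.add_apply, hp.factorization_self,
    Nat.factorization_eq_zero_of_not_dvd hm, add_zero, pow_one]

theorem conj_of_card [Finite G] {p m : ℕ} [Fact p.Prime] (hG : Nat.card G = p * m)
    (hm : ¬ p ∣ m) {X Y : Subgroup G} (hX : Nat.card ↥X = p) (hY : Nat.card ↥Y = p) :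
    ∃ g : G, X.map (MulAut.conj g).toMonoidHom = Y := by
  obtain ⟨P, rfl⟩ := exists_sylow hG hm hX
  obtain ⟨Q, rfl⟩ := exists_sylow hG hm hY
  obtain ⟨g, hg⟩ := MulAction.exists_smul_eq G P Q
  refine ⟨g, ?_⟩
  rw [← hg]
  rfl

/-- Sylow's congruence, divided by `p`. -/
theorem sylow_congr [Finite G] {p m : ℕ} [Fact p.Prime] (hG : Nat.card G = p * m)
    (hm : ¬ p ∣ m) {X : Subgroup G} (hX : Nat.card ↥X = p) :
    ∃ n, Nat.card ↥(normalizer (X : Set G)) = p * n ∧ n ≡ m [MOD p] ∧ n ∣ m := by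
  obtain ⟨P, rfl⟩ := exists_sylow hG hm hX
  obtain ⟨n, hn⟩ : p ∣ Nat.card ↥(normalizer ((P : Subgroup G) : Set G)) :=
    hX.symm.dvd.trans (Subgroup.card_dvd_of_le Subgroup.le_normalizer)
  refine ⟨n, hn, ?_⟩
  have h := (normalizer ((P : Subgroup G) : Set G)).index_mul_card
  have hs : (normalizer ((P : Subgroup G) : Set G)).index ≡ 1 [MOD p] := by
    have := card_sylow_modEq_one p G
    rwa [P.card_eq_index_normalizer] at this
  rw [hn, hG, mul_left_comm] at h
  have h' := mul_left_cancel₀ (Fact.out : p.Prime).ne_zero h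
  refine ⟨?_, h' ▸ dvd_mul_left n _⟩
  rw [← h']
  have := (hs.mul_right n).symm
  rwa [one_mul] at this

/-- A free action divides the number of points. -/
theorem card_dvd_of_free {α : Type*} [Finite α] {K : Type*} [Group K] [MulAction K α]
    (h : ∀ (k : K) (x : α), k • x = x → k = 1) : Nat.card K ∣ Nat.card α := by
  haveI : Fintype (MulAction.orbitRel.Quotient K α) := Fintype.ofFinite _
  rw [Nat.card_congr (MulAction.selfEquivSigmaOrbits' K α), Nat.card_sigma]
  refine Finset.dvd_sum fun q _ => ?_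
  obtain ⟨x, rfl⟩ := Quotient.exists_rep q
  have e : Function.Injective (fun k : K => k • x) := fun k l hkl =>
    (inv_mul_eq_one.1 (h (l⁻¹ * k) x (by
      simp only at hkl
      rw [mul_smul, hkl, inv_smul_smul]))).symm
  rw [MulAction.orbitRel.Quotient.orbit_mk]
  exact dvd_of_eq (Nat.card_congr (Equiv.ofInjective _ e))

section Lift

variable {P : Type*} [Group P] (f : G →* P) (hf : Function.Surjective f)
  (hc : f.ker ≤ Subgroup.center G)

include hf in
theorem card_comap (K : Subgroup P) [Finite G] :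
    Nat.card ↥(K.comap f) = Nat.card ↥f.ker * Nat.card ↥K := by
  have : Finite P := Finite.of_surjective f hf
  have h := (K.comap f).index_mul_card
  rw [Subgroup.index_comap_of_surjective K hf, ← f.ker.index_mul_card, Subgroup.index_ker,
    f.range_eq_top.2 hf, Subgroup.card_top, ← K.index_mul_card] at h
  have h0 : K.index ≠ 0 := Subgroup.index_ne_zero_of_finite
  refine mul_left_cancel₀ h0 (h.trans ?_)
  ring

theorem card_map_of_prime {p : ℕ} (hk : (Nat.card ↥f.ker).Coprime p)
    {X : Subgroup G} (hX : Nat.card ↥X = p) : Nat.card ↥(X.map f) = p := by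
  rw [← hX]
  refine (Nat.card_congr (Equiv.ofBijective (fun x : ↥X =>
    (⟨f x, ⟨x, x.2, rfl⟩⟩ : ↥(X.map f))) ⟨?_, ?_⟩)).symm
  · intro x y h
    have hxy : f (x : G) = f (y : G) := congrArg Subtype.val h
    have h1 : ((x⁻¹ * y : ↥X) : G) ∈ f.ker := by simp [MonoidHom.mem_ker, hxy]
    have h2 : orderOf ((x⁻¹ * y : ↥X) : G) ∣ p := by
      rw [Subgroup.orderOf_coe]; exact hX ▸ orderOf_dvd_natCard _
    have h3 : orderOf ((x⁻¹ * y : ↥X) : G) ∣ Nat.card ↥f.ker :=
      Subgroup.orderOf_dvd_natCard _ h1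
    have h4 := Nat.eq_one_of_dvd_coprimes hk h3 h2
    rw [orderOf_eq_one_iff, Subgroup.coe_mul, InvMemClass.coe_inv, inv_mul_eq_one] at h4
    exact Subtype.ext h4
  · rintro ⟨_, x, hx, rfl⟩
    exact ⟨⟨x, hx⟩, rfl⟩

include hc in
/-- Modulo a kernel of coprime order, conjugation of a prime order subgroup is seen downstairs. -/
theorem eq_of_map_eq {p : ℕ} (hk : (Nat.card ↥f.ker).Coprime p)
    {x y : G} (hx : x ^ p = 1) (hy : y ^ p = 1) (h : f x = f y) : x = y := by
  have hz : x⁻¹ * y ∈ f.ker := by simp [MonoidHom.mem_ker, h]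
  have hcom : Commute x (x⁻¹ * y) := Subgroup.mem_center_iff.1 (hc hz) x
  have hpow : (x⁻¹ * y) ^ p = 1 := by
    have := hcom.mul_pow p
    rwa [mul_inv_cancel_left, hy, hx, one_mul, eq_comm] at this
  have := Nat.eq_one_of_dvd_coprimes hk (Subgroup.orderOf_dvd_natCard _ hz)
    (orderOf_dvd_of_pow_eq_one hpow)
  rwa [orderOf_eq_one_iff, inv_mul_eq_one] at this

include hc in
theorem comap_centralizer {p : ℕ} (hk : (Nat.card ↥f.ker).Coprime p)
    {X : Subgroup G} (hX : Nat.card ↥X = p) :
    (centralizer ((X.map f : Subgroup P) : Set P)).comap f = centralizer (X : Set G) := by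
  ext g
  rw [Subgroup.mem_comap, mem_centralizer_iff, mem_centralizer_iff]
  constructor
  · intro h x hx
    have hxp : x ^ p = 1 := by
      have := pow_card_eq_one' (x := (⟨x, hx⟩ : ↥X))
      rw [hX] at this
      exact congrArg Subtype.val this
    have e := eq_of_map_eq f hc hk (x := g * x * g⁻¹) (y := x) (by
      rw [← MulAut.conj_apply, ← map_pow, hxp, map_one]) hxp (by
      rw [map_mul, map_mul, map_inv, ← h (f x) ⟨x, hx, rfl⟩, mul_inv_cancel_right])
    exact (mul_inv_eq_iff_eq_mul.1 e).symm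
  · rintro h _ ⟨x, hx, rfl⟩
    rw [← map_mul, ← map_mul, h x hx]

include hc in
theorem comap_normalizer {p : ℕ} (hk : (Nat.card ↥f.ker).Coprime p)
    {X : Subgroup G} (hX : Nat.card ↥X = p) :
    (normalizer ((X.map f : Subgroup P) : Set P)).comap f = normalizer (X : Set G) := by
  have hpow : ∀ x ∈ X, x ^ p = 1 := fun x hx => by
    have := pow_card_eq_one' (x := (⟨x, hx⟩ : ↥X))
    rw [hX] at this
    exact congrArg Subtype.val this
  ext g
  rw [Subgroup.mem_comap, Subgroup.mem_normalizer_iff, Subgroup.mem_normalizer_iff]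
  constructor
  · intro h x
    constructor
    · intro hx
      obtain ⟨y, hy, hye⟩ : f (g * x * g⁻¹) ∈ X.map f := by
        rw [map_mul, map_mul, map_inv]; exact (h (f x)).1 ⟨x, hx, rfl⟩
      rw [← eq_of_map_eq f hc hk (x := y) (y := g * x * g⁻¹) (hpow y hy)
        (by rw [← MulAut.conj_apply, ← map_pow, hpow x hx, map_one]) hye]
      exact hy
    · intro hx
      obtain ⟨y, hy, hye⟩ : f x ∈ X.map f := by
        refine (h (f x)).2 ?_
        rw [← map_inv, ← map_mul, ← map_mul]
        exact ⟨_, hx, rfl⟩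
      have hxp : x ^ p = 1 := by
        have := hpow _ hx
        rw [← MulAut.conj_apply, ← map_pow] at this
        exact (MulEquiv.map_eq_one_iff _).1 this
      rw [← eq_of_map_eq f hc hk (hpow y hy) hxp hye]
      exact hy
  · intro h z
    constructor
    · rintro ⟨x, hx, rfl⟩
      exact ⟨g * x * g⁻¹, (h x).1 hx, by simp⟩
    · rintro ⟨y, hy, e⟩
      refine ⟨g⁻¹ * y * g, (h _).2 (by simpa [mul_assoc] using hy), ?_⟩
      rw [map_mul, map_mul, map_inv, e]
      group

include hf hc in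
/-- Orders of the normaliser and centraliser upstairs. -/
theorem card_lift [Finite G] {p : ℕ} (hk : (Nat.card ↥f.ker).Coprime p)
    {X : Subgroup G} (hX : Nat.card ↥X = p) :
    Nat.card ↥(normalizer (X : Set G)) =
        Nat.card ↥f.ker * Nat.card ↥(normalizer ((X.map f : Subgroup P) : Set P)) ∧
      Nat.card ↥(centralizer (X : Set G)) =
        Nat.card ↥f.ker * Nat.card ↥(centralizer ((X.map f : Subgroup P) : Set P)) :=
  ⟨by rw [← comap_normalizer f hc hk hX, card_comap f hf],
    by rw [← comap_centralizer f hc hk hX, card_comap f hf]⟩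

include hf in
theorem exists_lift [Finite G] {p : ℕ} [Fact p.Prime] (hk : (Nat.card ↥f.ker).Coprime p)
    {Y : Subgroup P} (hY : Nat.card ↥Y = p) :
    ∃ X : Subgroup G, Nat.card ↥X = p ∧ X.map f = Y := by
  have : Finite P := Finite.of_surjective f hf
  have hdvd : p ∣ Nat.card ↥(Y.comap f) := by rw [card_comap f hf, hY]; exact dvd_mul_left _ _
  obtain ⟨⟨x, hx⟩, ho⟩ := exists_prime_orderOf_dvd_card' (G := ↥(Y.comap f)) p hdvd
  rw [Subgroup.orderOf_mk] at ho
  have hX : Nat.card ↥(zpowers x) = p := by rw [Nat.card_zpowers, ho]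
  refine ⟨zpowers x, hX, Subgroup.eq_of_le_of_card_ge ?_ ?_⟩
  · rw [Subgroup.map_le_iff_le_comap, zpowers_le]
    exact hx
  · rw [card_map_of_prime f hk hX, hY]

end Lift

end Cfsg.Agent.ThreeTransp.M22Prime
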