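import Cfsg.Agent.Lib.ThreeTransp.M22.Products
import Cfsg.Agent.Lib.ThreeTransp.M22Prime.Prime

/-!
Subgroups of prime order in a group of type M(22): their fixed members and the passage to the
unitary group at a fixed member.
-/

set_option autoImplicit false
set_option linter.unusedSectionVars false

namespace Cfsg.Agent.ThreeTransp.M22Prime

open Subgroup
open Cfsg.Agent.ThreeTransp
open Cfsg.Agent.ThreeTransp.M22 (Chart exists_chart outer)
open Cfsg.Agent.ThreeTransp.Factor (nb Hd mem_Hd Hd_commute)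

variable {G : Type*} [Group G] {D : Set G}

theorem natCard_PSU {F : Type*} [Field F] [Fintype F] (hF : Fintype.card F = 2 ^ 2) :
    Nat.card (Cfsg.PSU 6 F 2) = 9196830720 := by
  have h := Cfsg.Agent.Classical.Unitary.natCard_PSU_mul (n := 6) (q := 2) (F := F) hF (by norm_num)
  rw [Cfsg.Agent.Classical.Unitary.natCard_GU hF, show Nat.gcd 6 (2 + 1) = 3 from rfl] at h
  simp [Finset.prod_range_succ, Nat.even_iff] at h
  omega

theorem le_centralizer_iff {X : Subgroup G} {a : G} :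
    X ≤ centralizer ({a} : Set G) ↔ ∀ x ∈ X, Commute x a :=
  ⟨fun h x hx => (h hx a rfl).symm,
    fun h x hx y hy => by rw [Set.mem_singleton_iff.1 hy]; exact (h x hx).eq.symm⟩

theorem mem_fixIn_iff_le {X : Subgroup G} {a : G} :
    a ∈ fixIn D X ↔ a ∈ D ∧ X ≤ centralizer ({a} : Set G) := by
  rw [mem_fixIn, le_centralizer_iff]

theorem mem_nb_of_fixIn {X : Subgroup G} {a : G} {y : G} (hy : y ∈ fixIn (nb D a) X) :
    y ∈ fixIn D X := ⟨hy.1.1, hy.2⟩

variable [Finite G] (hD : Cfsg.IsThreeTranspositionGroup D)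
  (hprim : Cfsg.IsPrimitiveUnderConj D) (h22 : Cfsg.IsOfTypeM22 G D)
include hD

theorem conj_mem (g : G) : ∀ s ∈ D, g * s * g⁻¹ ∈ D := fun s hs => hD.2.1 g s hs

theorem nb_stable {X : Subgroup G} {a : G} (ha : X ≤ centralizer ({a} : Set G)) :
    ∀ x ∈ X, ∀ s ∈ nb D a, x * s * x⁻¹ ∈ nb D a :=
  fun x hx _ hs => Chart.conj_mem_nb hD (le_centralizer_iff.1 ha x hx) hs

theorem inter_stable {X : Subgroup G} {a b : G} (ha : X ≤ centralizer ({a} : Set G))
    (hb : X ≤ centralizer ({b} : Set G)) :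
    ∀ x ∈ X, ∀ s ∈ nb D a ∩ nb D b, x * s * x⁻¹ ∈ nb D a ∩ nb D b :=
  fun x hx s hs => ⟨nb_stable hD ha x hx s hs.1, nb_stable hD hb x hx s hs.2⟩

theorem outer_stable {X : Subgroup G} {a : G} (ha : X ≤ centralizer ({a} : Set G)) :
    ∀ x ∈ X, ∀ s ∈ outer D a, x * s * x⁻¹ ∈ outer D a := by
  intro x hx s hs
  refine ⟨hD.2.1 x s hs.1, fun h => hs.2 ?_⟩
  have e : x * a * x⁻¹ = a := mul_inv_eq_iff_eq_mul.2 (le_centralizer_iff.1 ha x hx).eq
  rw [← e] at h
  exact Basic.commute_conj.1 h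

include hprim h22

/-- The order of a subgroup centralising two commuting members. -/
theorem card_dvd_of_two {X : Subgroup G} {a b : G} (ha : a ∈ fixIn D X)
    (hb : b ∈ fixIn (nb D a) X) : Nat.card ↥X ∣ 26542080 := by
  rw [← M22.card_centralizer_two hD hprim h22 ha.1 hb.1]
  exact Subgroup.card_dvd_of_le (le_inf (mem_fixIn_iff_le.1 ha).2
    (mem_fixIn_iff_le.1 (mem_nb_of_fixIn hb)).2)

/-- The members fixed by a group of prime order, modulo the prime. -/
theorem modEq_class {p : ℕ} [Fact p.Prime] {X : Subgroup G} (hX : IsPGroup p ↥X) :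
    3510 ≡ (fixIn D X).ncard [MOD p] := by
  have := modEq_fixIn hX (fun x _ => conj_mem hD x)
  rwa [M22.ncard_class hD hprim h22] at this

theorem modEq_nb {p : ℕ} [Fact p.Prime] {X : Subgroup G} (hX : IsPGroup p ↥X) {a : G}
    (ha : a ∈ fixIn D X) : 693 ≡ (fixIn (nb D a) X).ncard [MOD p] := by
  have := modEq_fixIn hX (nb_stable hD (mem_fixIn_iff_le.1 ha).2)
  rwa [M22.ncard_nb hD hprim h22 ha.1] at this

theorem modEq_outer {p : ℕ} [Fact p.Prime] {X : Subgroup G} (hX : IsPGroup p ↥X) {a : G}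
    (ha : a ∈ fixIn D X) : 2816 ≡ (fixIn (outer D a) X).ncard [MOD p] := by
  have := modEq_fixIn hX (outer_stable hD (mem_fixIn_iff_le.1 ha).2)
  rwa [M22.ncard_outer hD hprim h22 ha.1] at this

theorem modEq_inter {p : ℕ} [Fact p.Prime] {X : Subgroup G} (hX : IsPGroup p ↥X) {a b : G}
    (ha : a ∈ fixIn D X) (hb : b ∈ fixIn D X) (hab : ¬ Commute a b) :
    126 ≡ (fixIn (nb D a ∩ nb D b) X).ncard [MOD p] := by
  have := modEq_fixIn hX
    (inter_stable hD (mem_fixIn_iff_le.1 ha).2 (mem_fixIn_iff_le.1 hb).2)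
  rwa [M22.ncard_inter hD hprim h22 ha.1 hb.1 hab] at this

/-- Normaliser and centraliser inside the centraliser of a fixed member, seen in the unitary
group. -/
theorem card_at {a : G} (ha : a ∈ D) (C : Chart D a) {p : ℕ} [Fact p.Prime] (hp : p ≠ 2)
    {X : Subgroup G} (hX : Nat.card ↥X = p) (hXa : X ≤ centralizer ({a} : Set G)) :
    ∃ Y : Subgroup (Cfsg.PSU 6 C.F 2), Y = (X.subgroupOf (Hd D a)).map C.ρ ∧ Nat.card ↥Y = p ∧
      Nat.card ↥(normalizer (X : Set G) ⊓ centralizer ({a} : Set G)) =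
        2 * Nat.card ↥(normalizer (Y : Set (Cfsg.PSU 6 C.F 2))) ∧
      Nat.card ↥(centralizer (X : Set G) ⊓ centralizer ({a} : Set G)) =
        2 * Nat.card ↥(centralizer (Y : Set (Cfsg.PSU 6 C.F 2))) := by
  have hcH := M22.centralizer_eq hD hprim h22 ha
  rw [hcH] at hXa ⊢
  have hX' : Nat.card ↥(X.subgroupOf (Hd D a)) = p := by
    rw [Nat.card_congr (Subgroup.subgroupOfEquivOfLe hXa).toEquiv, hX]
  have hk : Nat.card ↥C.ρ.ker = 2 := by
    rw [C.ker, M22.center_eq hD hprim h22 ha, Nat.card_congr (Subgroup.subgroupOfEquivOfLe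
      (Subgroup.zpowers_le.2 ?_)).toEquiv, Nat.card_zpowers, hD.1.1 a ha]
    rw [← hcH]
    exact fun x hx => by rw [Set.mem_singleton_iff.1 hx]
  have hco : (Nat.card ↥C.ρ.ker).Coprime p := by
    rw [hk]; exact (Nat.coprime_primes Nat.prime_two Fact.out).2 hp.symm
  have hc : C.ρ.ker ≤ Subgroup.center ↥(Hd D a) := le_of_eq C.ker
  obtain ⟨hN, hC⟩ := card_lift C.ρ C.surj hc hco hX'
  rw [hk] at hN hC
  refine ⟨_, rfl, card_map_of_prime C.ρ hco hX', ?_, ?_⟩
  · rw [← hN, ← Nat.card_congr (Subgroup.subgroupOfEquivOfLe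
      (inf_le_right : normalizer (X : Set G) ⊓ Hd D a ≤ Hd D a)).toEquiv,
      Subgroup.inf_subgroupOf_right, Subgroup.subgroupOf_normalizer_eq hXa]
  · rw [← hC, ← Nat.card_congr (Subgroup.subgroupOfEquivOfLe
      (inf_le_right : centralizer (X : Set G) ⊓ Hd D a ≤ Hd D a)).toEquiv,
      Subgroup.inf_subgroupOf_right]
    suffices e : (centralizer (X : Set G)).subgroupOf (Hd D a) =
        centralizer ((X.subgroupOf (Hd D a) : Subgroup ↥(Hd D a)) : Set ↥(Hd D a)) by rw [e]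
    ext g
    rw [mem_subgroupOf, mem_centralizer_iff, mem_centralizer_iff]
    exact ⟨fun h x hx => Subtype.ext (h x.1 hx),
      fun h x hx => congrArg Subtype.val (h ⟨x, hXa hx⟩ hx)⟩

/-- Orbit and stabiliser on the fixed members. -/
theorem card_mul_stab {a : G} {T : Set G}
    (K : Subgroup G) (hT : (fun g => g * a * g⁻¹) '' (K : Set G) = T) :
    Nat.card ↥K = T.ncard * Nat.card ↥(K ⊓ centralizer ({a} : Set G)) :=
  M22.orbit_card K _ T (fun g => g * a * g⁻¹) hT fun _ _ _ _ => M22.conj_eq_iff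

/-- A single fixed member is fixed by the normaliser. -/
theorem normalizer_le_of_fix_single {X : Subgroup G} {a : G} (h : fixIn D X = {a}) :
    normalizer (X : Set G) ≤ centralizer ({a} : Set G) := by
  intro g hg
  have h1 := fixIn_normalizer (fun g s hs => hD.2.1 g s hs) hg (h ▸ Set.mem_singleton a)
  rw [h, Set.mem_singleton_iff] at h1
  exact (M22.mem_centralizer_iff_commute hD hprim h22).2 (mul_inv_eq_iff_eq_mul.1 h1)

end Cfsg.Agent.ThreeTransp.M22Prime
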